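import Mathlib

/-! A cover of the punctured henselised line trivial on the zero section is trivial: algebra. -/

set_option autoImplicit false
set_option linter.style.haveILetI false
set_option linter.unusedSectionVars false
set_option maxHeartbeats 2000000
set_option synthInstance.maxHeartbeats 200000
universe u

noncomputable section

open scoped TensorProduct

namespace HenLine

/-- The kernel between consecutive truncations is nilpotent. -/
theorem isNilpotent_ker_step {T : Type u} [CommRing T] (I : Ideal T) (k : ℕ) :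
    IsNilpotent (RingHom.ker (Ideal.Quotient.factor (Ideal.pow_le_pow_right (Nat.le_succ (k + 1)) : I ^ (k + 2) ≤ I ^ (k + 1)))) := by
  refine ⟨2, ?_⟩
  rw [Ideal.Quotient.factor_ker, ← Ideal.map_pow, ← pow_mul, Submodule.zero_eq_bot, Ideal.map_eq_bot_iff_le_ker, Ideal.mk_ker]
  exact Ideal.pow_le_pow_right (by omega)

/-- One step of lifting. -/
theorem exists_lift_step {R E T : Type u} [CommRing R] [CommRing E] [CommRing T] [Algebra R E] [Algebra R T]
    [Algebra.FormallySmooth R E] (I : Ideal T) (k : ℕ) (g : E →ₐ[R] T ⧸ I ^ (k + 1)) :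
    ∃ g' : E →ₐ[R] T ⧸ I ^ (k + 2), ∀ x,
      Ideal.Quotient.factor (Ideal.pow_le_pow_right (Nat.le_succ (k + 1)) : I ^ (k + 2) ≤ I ^ (k + 1)) (g' x) = g x := by
  have hle : I ^ (k + 2) ≤ I ^ (k + 1) := Ideal.pow_le_pow_right (Nat.le_succ (k + 1))
  let F : (T ⧸ I ^ (k + 2)) →ₐ[R] T ⧸ I ^ (k + 1) := Ideal.Quotient.factorₐ R hle
  have hs : Function.Surjective F := Ideal.Quotient.factor_surjective hle
  have hn : IsNilpotent (RingHom.ker (F : (T ⧸ I ^ (k + 2)) →+* T ⧸ I ^ (k + 1))) := isNilpotent_ker_step I k
  exact ⟨Algebra.FormallySmooth.liftOfSurjective g F hs hn,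
    fun x => Algebra.FormallySmooth.liftOfSurjective_apply g F hs hn x⟩

/-- Lifting a section of a formally smooth algebra to an adically complete ring. -/
theorem exists_lift_adic {R E T : Type u} [CommRing R] [CommRing E] [CommRing T] [Algebra R E] [Algebra R T]
    [Algebra.FormallySmooth R E] (I : Ideal T) [IsAdicComplete I T] (g0 : E →ₐ[R] T ⧸ I) :
    ∃ g : E →ₐ[R] T, ∀ x, Ideal.Quotient.mk I (g x) = g0 x := by
  classical
  have hstep := fun k g => exists_lift_step (R := R) (E := E) I k g
  choose next hnext using hstep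
  let g1 : E →ₐ[R] T ⧸ I ^ (0 + 1) := (Ideal.Quotient.factorₐ R (show I ≤ I ^ (0 + 1) by rw [zero_add, pow_one])).comp g0
  let seq : (k : ℕ) → (E →ₐ[R] T ⧸ I ^ (k + 1)) := fun k => Nat.rec g1 (fun k g => next k g) k
  have hmono : StrictMono (fun k : ℕ => k + 1) := fun a b h => Nat.succ_lt_succ h
  have hf : ∀ {k : ℕ}, (Ideal.Quotient.factorPow I (hmono.monotone k.le_succ)).comp ((seq (k + 1)).toRingHom) = (seq k).toRingHom :=
    fun {k} => RingHom.ext fun x => hnext k (seq k) x
  let F := IsAdicComplete.StrictMono.liftRingHom I hmono (fun k => (seq k).toRingHom) hf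
  have hF : ∀ k x, Ideal.Quotient.mk (I ^ (k + 1)) (F x) = seq k x := fun k x =>
    IsAdicComplete.StrictMono.mk_liftRingHom I hmono (fun k => (seq k).toRingHom) hf (n := k) x
  refine ⟨{ F with commutes' := fun r => ?_ }, fun x => ?_⟩
  · refine sub_eq_zero.1 (IsHausdorff.haus (I := I) inferInstance _ fun n => ?_)
    rw [SModEq.zero, smul_eq_mul, Ideal.mul_top]
    refine Ideal.pow_le_pow_right (Nat.le_succ n) ?_
    rw [← Ideal.Quotient.eq_zero_iff_mem, map_sub, sub_eq_zero]
    exact (hF n _).trans (AlgHom.commutes (seq n) r)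
  · show Ideal.Quotient.mk I (F x) = g0 x
    have h := hF 0 x
    obtain ⟨y, hy⟩ := Ideal.Quotient.mk_surjective (g0 x)
    rw [← hy] at ⊢
    rw [Ideal.Quotient.eq]
    have h2 : seq 0 x = Ideal.Quotient.mk (I ^ (0 + 1)) y := by
      show g1 x = _
      simp only [g1, AlgHom.comp_apply, ← hy]
      rfl
    rw [h2, Ideal.Quotient.eq, zero_add, pow_one] at h
    exact h

/-- A finite etale algebra over a domain with `d` sections that exhaust it modulo `x` is split. -/
theorem sections_bijective {S C : Type u} [CommRing S] [IsDomain S] [IsNoetherianRing S] [CommRing C] [Algebra S C]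
    [Module.Finite S C] [Algebra.Etale S C] (x : S) (hx : ¬ IsUnit x) {d : ℕ} (χ : Fin d → (C →ₐ[S] S))
    (hdist : ∀ i j, i ≠ j → χ i ≠ χ j)
    (hker : ∀ z : C, (∀ j, χ j z = 0) → ∃ w : C, z = algebraMap S C x * w) :
    Function.Bijective (Pi.algHom S (fun _ : Fin d => S) χ) := by
  classical
  have he : ∀ j, ∃ e : C, χ j e = 1 ∧ ∀ c, e * c = algebraMap S C (χ j c) * e := fun j => by
    let f : C ⊗[S] C →ₐ[S] C :=
      Algebra.TensorProduct.lift ((Algebra.ofId S C).comp (χ j)) (AlgHom.id S C) fun _ _ => Commute.all _ _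
    refine ⟨f (Algebra.FormallyUnramified.elem S C), ?_, fun c => ?_⟩
    · have h : (χ j).comp f = (χ j).comp (Algebra.TensorProduct.lmul' S) := Algebra.TensorProduct.ext' fun a b => by
        simp [f, Algebra.TensorProduct.lmul'_apply_tmul]
      have h2 : χ j (f (Algebra.FormallyUnramified.elem S C)) = χ j (Algebra.TensorProduct.lmul' S (Algebra.FormallyUnramified.elem S C)) :=
        DFunLike.congr_fun h _
      rw [h2]
      have h3 : Algebra.TensorProduct.lmul' S (Algebra.FormallyUnramified.elem S C) = 1 := Algebra.FormallyUnramified.lmul_elem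
      rw [h3, map_one]
    · have h := congrArg f (Algebra.FormallyUnramified.one_tmul_mul_elem (R := S) (S := C) c)
      rw [map_mul, map_mul] at h
      simp only [f, Algebra.TensorProduct.lift_tmul] at h
      simp only [map_one, one_mul, mul_one, AlgHom.id_apply] at h
      rw [mul_comm]
      exact h
  choose e he1 he2 using he
  have hδ : ∀ i j, i ≠ j → χ i (e j) = 0 := fun i j hij => by
    by_contra h0
    refine hdist i j hij (AlgHom.ext fun c => ?_)
    have h := congrArg (χ i) (he2 j c)
    rw [map_mul, map_mul, AlgHom.commutes, mul_comm] at h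
    exact mul_right_cancel₀ h0 h
  refine ⟨(injective_iff_map_eq_zero _).2 fun z hz => ?_, fun v => ⟨∑ j, algebraMap S C (v j) * e j, ?_⟩⟩
  · have hz' : ∀ j, χ j z = 0 := fun j => congrFun hz j
    let e0 : C := 1 - ∑ j, e j
    have hze : z * e0 = z := by
      simp only [e0, mul_sub, mul_one, Finset.mul_sum, sub_eq_self]
      refine Finset.sum_eq_zero fun j _ => ?_
      rw [mul_comm, he2, hz', map_zero, zero_mul]
    have he0 : ∀ i, χ i e0 = 0 := fun i => by
      simp only [e0, map_sub, map_one, map_sum]
      rw [Finset.sum_eq_single i (fun j _ hj => hδ i j (Ne.symm hj)) (fun h => absurd (Finset.mem_univ i) h), he1, sub_self]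
    obtain ⟨w, hw⟩ := hker e0 he0
    have hid : ∀ n : ℕ, z = algebraMap S C (x ^ n) * (z * w ^ n) := by
      intro n
      induction n with
      | zero => simp
      | succ n ih =>
        conv_lhs => rw [← hze, ih, hw]
        rw [pow_succ, pow_succ, map_mul]
        ring
    haveI : Module.Flat S C := inferInstance
    haveI : Module.FinitePresentation S C := Module.finitePresentation_of_finite S C
    haveI : Module.Projective S C := Module.Flat.projective_of_finitePresentation
    obtain ⟨k, π, ι, hsurj, hinj, hπι⟩ := Module.Finite.exists_comp_eq_id_of_projective S C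
    apply hinj
    rw [map_zero]
    funext i
    have hmem : ι z i ∈ ⨅ n, (Ideal.span {x}) ^ n := Submodule.mem_iInf _ |>.2 fun n => by
      rw [hid n, ← Algebra.smul_def, map_smul, Pi.smul_apply, smul_eq_mul, Ideal.span_singleton_pow]
      exact Ideal.mul_mem_right _ _ (Ideal.mem_span_singleton_self _)
    rw [Ideal.iInf_pow_eq_bot_of_isDomain _ (fun h => hx (Ideal.span_singleton_eq_top.1 h))] at hmem
    exact hmem
  · funext i
    show χ i (∑ j, algebraMap S C (v j) * e j) = v i
    rw [map_sum, Finset.sum_eq_single i (fun j _ hj => by rw [map_mul, hδ i j (Ne.symm hj), mul_zero])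
      (fun h => absurd (Finset.mem_univ i) h), map_mul, he1, mul_one, AlgHom.commutes, Algebra.algebraMap_self, RingHom.id_apply]

/-- The main algebraic statement. -/
theorem tensor_bijective {A R B : Type u} [CommRing A] [IsDomain A] [IsNoetherianRing A]
    [CommRing R] [CommRing B] [Algebra R B] [Algebra R (PowerSeries A)] [Module.FaithfullyFlat R (PowerSeries A)]
    (φ : A →+* R) (hφ : ∀ x, algebraMap R (PowerSeries A) (φ x) = PowerSeries.C x)
    (τ : R) (hτ : algebraMap R (PowerSeries A) τ = PowerSeries.X)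
    {m : ℕ} (i₀ : Fin m) (a : Fin m → A) (ha : ∀ i, a i ≠ 0)
    (hfin : ∀ i, Module.Finite (Localization.Away (φ (a i))) (Localization.Away (φ (a i)) ⊗[R] B))
    (het : ∀ i, Algebra.Etale (Localization.Away (φ (a i))) (Localization.Away (φ (a i)) ⊗[R] B))
    (hzero : ∀ s : B, (∀ i, ∃ n : ℕ, φ (a i) ^ n • s = 0) → s = 0)
    (hglue : ∀ (n : Fin m → ℕ) (r : Fin m → B), (∀ i j, φ (a j) ^ n j • r i = φ (a i) ^ n i • r j) →
      ∃ s, ∀ i, φ (a i) ^ n i • s = r i)
    (hHart : ∀ z : FractionRing A, (∀ i, ∃ (n : ℕ) (y : A), algebraMap A (FractionRing A) (a i ^ n) * z = algebraMap A _ y) →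
      ∃ y : A, z = algebraMap A _ y)
    {d : ℕ} (χ0 : Fin d → (B →+* A))
    (hχ0 : ∀ j r, χ0 j (algebraMap R B r) = PowerSeries.constantCoeff (algebraMap R (PowerSeries A) r))
    (hdist : ∀ i j, i ≠ j → χ0 i ≠ χ0 j)
    (hker : ∀ i (b : B), (∀ j, χ0 j b = 0) → ∃ (k : ℕ) (w : B), φ (a i) ^ k • b = τ • w) :
    ∃ χ : Fin d → (B →ₐ[R] PowerSeries A),
      Function.Bijective (Algebra.TensorProduct.lift (Algebra.ofId (PowerSeries A) (Fin d → PowerSeries A))
        (Pi.algHom R (fun _ : Fin d => PowerSeries A) χ) fun _ _ => Commute.all _ _) := by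
  classical
  let O := PowerSeries A
  let K := FractionRing A
  -- lifts on the pieces
  let cK : O →+* PowerSeries K := PowerSeries.map (algebraMap A K)
  have hcK : Function.Injective cK := PowerSeries.map_injective _ (IsFractionRing.injective A K)
  have hlift : ∀ i j, ∃ g : B →+* PowerSeries K,
      (∀ r, g (algebraMap R B r) = cK (algebraMap R O r)) ∧
      (∀ b, PowerSeries.constantCoeff (g b) = algebraMap A K (χ0 j b)) ∧
      ∀ b k, ∃ (n : ℕ) (y : A), algebraMap A K (a i ^ n) * PowerSeries.coeff k (g b) = algebraMap A K y := by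
    intro i j
    let Ai := Localization.Away (a i)
    let T := PowerSeries Ai
    let Ri := Localization.Away (φ (a i))
    haveI := het i
    let cT : R →+* T := (PowerSeries.map (algebraMap A Ai)).comp (algebraMap R O)
    letI : Algebra R T := cT.toAlgebra
    have hu : IsUnit (cT (φ (a i))) := by
      show IsUnit (PowerSeries.map (algebraMap A Ai) (algebraMap R O (φ (a i))))
      rw [hφ, PowerSeries.map_C]
      exact (IsLocalization.Away.algebraMap_isUnit (a i)).map _
    let cRi : Ri →+* T := IsLocalization.Away.lift (φ (a i)) hu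
    letI : Algebra Ri T := cRi.toAlgebra
    haveI : IsScalarTower R Ri T := IsScalarTower.of_algebraMap_eq fun r => (IsLocalization.Away.lift_eq (φ (a i)) hu r).symm
    let I : Ideal T := Ideal.span {(PowerSeries.X : T)}
    let b0 : B →+* T ⧸ I := (Ideal.Quotient.mk I).comp ((PowerSeries.C).comp ((algebraMap A Ai).comp (χ0 j)))
    have hb0 : ∀ r, b0 (algebraMap R B r) = algebraMap R (T ⧸ I) r := fun r => by
      show Ideal.Quotient.mk I (PowerSeries.C (algebraMap A Ai (χ0 j (algebraMap R B r)))) = Ideal.Quotient.mk I (cT r)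
      rw [Ideal.Quotient.eq, Ideal.mem_span_singleton, PowerSeries.X_dvd_iff, map_sub, PowerSeries.constantCoeff_C,
        sub_eq_zero, hχ0]
      show algebraMap A Ai (PowerSeries.constantCoeff (algebraMap R O r)) =
        PowerSeries.constantCoeff (PowerSeries.map (algebraMap A Ai) (algebraMap R O r))
      rw [← PowerSeries.coeff_zero_eq_constantCoeff_apply, ← PowerSeries.coeff_zero_eq_constantCoeff_apply, PowerSeries.coeff_map]
    let b0' : B →ₐ[R] T ⧸ I := { b0 with commutes' := hb0 }
    let g0 : Ri ⊗[R] B →ₐ[Ri] T ⧸ I :=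
      Algebra.TensorProduct.lift (Algebra.ofId Ri (T ⧸ I)) b0' fun _ _ => Commute.all _ _
    obtain ⟨gE, hgE⟩ := exists_lift_adic I g0
    let gB : B →+* T := gE.toRingHom.comp (Algebra.TensorProduct.includeRight : B →ₐ[R] Ri ⊗[R] B).toRingHom
    have hAi : Submonoid.powers (a i) ≤ nonZeroDivisors A := powers_le_nonZeroDivisors_of_noZeroDivisors (ha i)
    let jK : Ai →+* K := IsLocalization.Away.lift (a i) (g := algebraMap A K)
      (Ne.isUnit ((map_ne_zero_iff _ (IsFractionRing.injective A K)).2 (ha i)))
    have hjK : jK.comp (algebraMap A Ai) = algebraMap A K := IsLocalization.Away.lift_comp (a i) _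
    refine ⟨(PowerSeries.map jK).comp gB, fun r => ?_, fun b => ?_, fun b k => ?_⟩
    · show PowerSeries.map jK (gE ((Algebra.TensorProduct.includeRight : B →ₐ[R] Ri ⊗[R] B) (algebraMap R B r))) = _
      rw [AlgHom.commutes, IsScalarTower.algebraMap_apply R Ri (Ri ⊗[R] B), AlgHom.commutes, ← IsScalarTower.algebraMap_apply R Ri T]
      show PowerSeries.map jK (PowerSeries.map (algebraMap A Ai) (algebraMap R O r)) = _
      ext k
      simp only [PowerSeries.coeff_map, cK]
      exact RingHom.congr_fun hjK _
    · show PowerSeries.constantCoeff (PowerSeries.map jK (gB b)) = _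
      rw [← PowerSeries.coeff_zero_eq_constantCoeff_apply, PowerSeries.coeff_map, PowerSeries.coeff_zero_eq_constantCoeff_apply]
      have h := hgE ((1 : Ri) ⊗ₜ[R] b)
      have h0 : g0 ((1 : Ri) ⊗ₜ[R] b) = b0 b := by simp [g0, b0']
      rw [h0, show b0 b = Ideal.Quotient.mk I (PowerSeries.C (algebraMap A Ai (χ0 j b))) from rfl, Ideal.Quotient.eq,
        Ideal.mem_span_singleton, PowerSeries.X_dvd_iff, map_sub, PowerSeries.constantCoeff_C, sub_eq_zero] at h
      show jK (PowerSeries.constantCoeff (gE ((1 : Ri) ⊗ₜ[R] b))) = _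
      rw [h]
      exact RingHom.congr_fun hjK _
    · obtain ⟨n, y, hy⟩ := IsLocalization.Away.surj (a i) (PowerSeries.coeff k (gB b))
      refine ⟨n, y, ?_⟩
      show algebraMap A K (a i ^ n) * PowerSeries.coeff k (PowerSeries.map jK (gB b)) = _
      rw [PowerSeries.coeff_map, ← hjK, RingHom.comp_apply, RingHom.comp_apply, ← map_mul, map_pow, mul_comm]
      exact congrArg jK hy
  choose g hgR hg0 hgA using hlift
  -- uniqueness in `K⟦X⟧`
  have huniq : ∀ i i' j, g i j = g i' j := by
    intro i i' j
    let T := PowerSeries K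
    let Ri := Localization.Away (φ (a i))
    haveI := het i
    let cT : R →+* T := cK.comp (algebraMap R O)
    letI : Algebra R T := cT.toAlgebra
    have hu : IsUnit (cT (φ (a i))) := by
      show IsUnit (cK (algebraMap R O (φ (a i))))
      rw [hφ, show cK (PowerSeries.C (a i)) = PowerSeries.C (algebraMap A K (a i)) from PowerSeries.map_C _ _]
      exact (Ne.isUnit ((map_ne_zero_iff _ (IsFractionRing.injective A K)).2 (ha i))).map _
    let cRi : Ri →+* T := IsLocalization.Away.lift (φ (a i)) hu
    letI : Algebra Ri T := cRi.toAlgebra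
    haveI : IsScalarTower R Ri T := IsScalarTower.of_algebraMap_eq fun r => (IsLocalization.Away.lift_eq (φ (a i)) hu r).symm
    let ext (i' : Fin m) : Ri ⊗[R] B →ₐ[Ri] T :=
      Algebra.TensorProduct.lift (Algebra.ofId Ri T) ({ g i' j with commutes' := fun r => hgR i' j r } : B →ₐ[R] T)
        fun _ _ => Commute.all _ _
    have hev : ∀ i' b, ext i' ((1 : Ri) ⊗ₜ[R] b) = g i' j b := fun i' b => by
      simp [ext]
    have h : ext i = ext i' := by
      refine Algebra.FormallyUnramified.ext_of_iInf (I := Ideal.span {(PowerSeries.X : T)}) ?_ fun z => ?_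
      · refine Ideal.iInf_pow_eq_bot_of_isDomain _ ?_
        rw [Ne, Ideal.span_singleton_eq_top, PowerSeries.isUnit_iff_constantCoeff, PowerSeries.constantCoeff_X]
        exact not_isUnit_zero
      · induction z using TensorProduct.induction_on with
        | zero => simp
        | add p q hp hq => simp only [map_add, hp, hq]
        | tmul r b =>
          rw [show r ⊗ₜ[R] b = algebraMap Ri (Ri ⊗[R] B) r * ((1 : Ri) ⊗ₜ[R] b) by simp]
          simp only [map_mul, AlgHom.commutes, hev]
          congr 1
          rw [Ideal.Quotient.eq, Ideal.mem_span_singleton, PowerSeries.X_dvd_iff, map_sub, hg0, hg0, sub_self]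
    exact RingHom.ext fun b => by rw [← hev, ← hev, h]
  -- integrality of the coefficients
  have hint : ∀ j b k, ∃ y : A, PowerSeries.coeff k (g i₀ j b) = algebraMap A K y := fun j b k =>
    hHart _ fun i => by rw [huniq i₀ i j]; exact hgA i j b k
  choose coef hcoef using hint
  have hmk : ∀ j b, cK (PowerSeries.mk (coef j b)) = g i₀ j b := fun j b => by
    ext k
    show PowerSeries.coeff k (PowerSeries.map (algebraMap A K) (PowerSeries.mk (coef j b))) = _
    rw [PowerSeries.coeff_map, PowerSeries.coeff_mk]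
    exact (hcoef j b k).symm
  let χ : Fin d → (B →ₐ[R] O) := fun j =>
    { toFun := fun b => PowerSeries.mk (coef j b)
      map_one' := hcK (by rw [hmk, map_one, map_one])
      map_mul' := fun x y => hcK (by rw [hmk, map_mul, map_mul, hmk, hmk])
      map_zero' := hcK (by rw [hmk, map_zero, map_zero])
      map_add' := fun x y => hcK (by rw [hmk, map_add, map_add, hmk, hmk])
      commutes' := fun r => hcK (by rw [hmk, hgR]) }
  have hχ : ∀ j b, PowerSeries.constantCoeff (χ j b) = χ0 j b := fun j b => IsFractionRing.injective A K (by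
    rw [← hg0 i₀ j b, ← hmk]
    simp only [cK, χ, AlgHom.coe_mk, RingHom.coe_mk, MonoidHom.coe_mk, OneHom.coe_mk,
      ← PowerSeries.coeff_zero_eq_constantCoeff_apply, PowerSeries.coeff_map]
    exact (PowerSeries.coeff_map (algebraMap A K) 0 _).symm)
  refine ⟨χ, ?_⟩
  let M := O ⊗[R] B
  let Φ : M →ₐ[O] (Fin d → O) := Algebra.TensorProduct.lift (Algebra.ofId O (Fin d → O))
    (Pi.algHom R (fun _ : Fin d => O) χ) fun _ _ => Commute.all _ _
  have hΦ1 : ∀ o b j, Φ (o ⊗ₜ[R] b) j = o * χ j b := fun o b j => by show (algebraMap O (Fin d → O) o * Pi.algHom R (fun _ : Fin d => O) χ b) j = _; rfl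
  -- `M` is generated by `B` modulo `X`
  have hmodX : ∀ z : M, ∃ (b : B) (w : M), z = (1 : O) ⊗ₜ[R] b + (PowerSeries.X : O) • w := by
    intro z
    induction z using TensorProduct.induction_on with
    | zero => exact ⟨0, 0, by simp⟩
    | tmul o b =>
      obtain ⟨q, hq⟩ : (PowerSeries.X : O) ∣ o - PowerSeries.C (PowerSeries.constantCoeff o) :=
        PowerSeries.X_dvd_iff.2 (by simp)
      refine ⟨φ (PowerSeries.constantCoeff o) • b, q ⊗ₜ b, ?_⟩
      rw [TensorProduct.tmul_smul, ← algebraMap_smul O (φ _) ((1 : O) ⊗ₜ[R] b), hφ, TensorProduct.smul_tmul',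
        TensorProduct.smul_tmul', ← TensorProduct.add_tmul, smul_eq_mul, smul_eq_mul, mul_one, ← hq, add_sub_cancel]
    | add x y hx hy =>
      obtain ⟨b, w, rfl⟩ := hx
      obtain ⟨b', w', rfl⟩ := hy
      exact ⟨b + b', w + w', by rw [TensorProduct.tmul_add, smul_add]; abel⟩
  -- flat pushforward of gluing
  have hpiece : ∀ i, (∀ z : M, Φ z = 0 → ∃ n : ℕ, PowerSeries.C (a i) ^ n • z = 0) ∧
      ∀ v : Fin d → O, ∃ (n : ℕ) (z : M), Φ z = PowerSeries.C (a i) ^ n • v := by
    intro i
    let c : O := PowerSeries.C (a i)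
    let S := Localization.Away c
    have hc : c ≠ 0 := fun h => ha i (PowerSeries.C_injective (h.trans (map_zero _).symm))
    have hM : Submonoid.powers c ≤ nonZeroDivisors O := powers_le_nonZeroDivisors_of_noZeroDivisors hc
    haveI : IsDomain S := IsLocalization.isDomain_of_le_nonZeroDivisors (R := O) S hM
    haveI : IsNoetherianRing S := IsLocalization.isNoetherianRing (Submonoid.powers c) S inferInstance
    have hSinj : Function.Injective (algebraMap O S) := IsLocalization.injective S hM
    let Ri := Localization.Away (φ (a i))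
    haveI := het i
    haveI := hfin i
    have hu : IsUnit (algebraMap R S (φ (a i))) := by
      rw [IsScalarTower.algebraMap_apply R O S, hφ]
      exact IsLocalization.Away.algebraMap_isUnit c
    letI : Algebra Ri S := (IsLocalization.Away.lift (φ (a i)) hu).toAlgebra
    haveI : IsScalarTower R Ri S := IsScalarTower.of_algebraMap_eq fun r => (IsLocalization.Away.lift_eq (φ (a i)) hu r).symm
    let C := S ⊗[R] B
    let eC : S ⊗[Ri] (Ri ⊗[R] B) ≃ₐ[S] C := Algebra.TensorProduct.cancelBaseChange R Ri S S B
    haveI : Module.Finite S C := Module.Finite.equiv eC.toLinearEquiv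
    haveI : Algebra.Etale S C := by
      set_option backward.isDefEq.respectTransparency false in exact Algebra.Etale.of_equiv (A := S ⊗[Ri] (Ri ⊗[R] B)) eC
    let χS : Fin d → (C →ₐ[S] S) := fun j =>
      Algebra.TensorProduct.lift (Algebra.ofId S S) ((IsScalarTower.toAlgHom R O S).comp (χ j)) fun _ _ => Commute.all _ _
    have hχS : ∀ j s b, χS j (s ⊗ₜ[R] b) = s * algebraMap O S (χ j b) := fun j s b => by
      simp only [χS]
      rw [Algebra.TensorProduct.lift_tmul]
      rfl
    let lf : M →ₐ[O] C := Algebra.TensorProduct.map (Algebra.ofId O S) (AlgHom.id R B)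
    haveI hloc : IsLocalizedModule (Submonoid.powers c) lf.toLinearMap := by
      rw [isLocalizedModule_iff_isBaseChange (Submonoid.powers c) S]
      refine IsBaseChange.of_equiv (TensorProduct.AlgebraTensorModule.cancelBaseChange R O S S B) fun z => ?_
      induction z using TensorProduct.induction_on with
      | zero => simp
      | tmul o b =>
        rw [TensorProduct.AlgebraTensorModule.cancelBaseChange_tmul]
        show ((o • (1 : S)) ⊗ₜ[R] b : C) = algebraMap O S o ⊗ₜ[R] b
        rw [Algebra.smul_def, mul_one]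
      | add x y hx hy => simp only [TensorProduct.tmul_add, map_add, hx, hy]
    have hlfΦ : ∀ z j, χS j (lf z) = algebraMap O S (Φ z j) := fun z j => by
      induction z using TensorProduct.induction_on with
      | zero => simp
      | tmul o b =>
        rw [hΦ1, map_mul]
        exact (hχS j _ b).trans rfl
      | add x y hx hy => simp only [map_add, Pi.add_apply, hx, hy]
    have hX : ¬ IsUnit (algebraMap O S PowerSeries.X) := fun hu' => by
      obtain ⟨v, hv⟩ := hu'.exists_right_inv
      obtain ⟨n, y, hy⟩ := IsLocalization.Away.surj c v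
      have h1 : (PowerSeries.X : O) * y = c ^ n := hSinj (by rw [map_mul, ← hy, ← mul_assoc, hv, one_mul, map_pow])
      have h2 := congrArg PowerSeries.constantCoeff h1
      rw [map_mul, PowerSeries.constantCoeff_X, zero_mul, map_pow, PowerSeries.constantCoeff_C] at h2
      exact pow_ne_zero n (ha i) h2.symm
    have hdistS : ∀ j j', j ≠ j' → χS j ≠ χS j' := fun j j' hjj h => hdist j j' hjj (RingHom.ext fun b => by
      have := DFunLike.congr_fun h (lf ((1 : O) ⊗ₜ[R] b))
      rw [hlfΦ, hlfΦ, hΦ1, hΦ1, one_mul, one_mul] at this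
      rw [← hχ, ← hχ, hSinj this])
    have hkerS : ∀ z : C, (∀ j, χS j z = 0) → ∃ w : C, z = algebraMap S C (algebraMap O S PowerSeries.X) * w := by
      intro z hz
      obtain ⟨⟨z0, ⟨_, n, rfl⟩⟩, hz0⟩ := IsLocalizedModule.surj (Submonoid.powers c) lf.toLinearMap z
      change (c ^ n) • z = lf z0 at hz0
      obtain ⟨b, w, rfl⟩ := hmodX z0
      have hb : ∀ j, χ0 j b = 0 := fun j => by
        have h1 : algebraMap O S (Φ ((1 : O) ⊗ₜ[R] b + (PowerSeries.X : O) • w) j) = 0 := by
          rw [← hlfΦ, ← hz0, ← algebraMap_smul S (c ^ n) z, map_smul, hz, smul_zero]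
        have h2 := (map_eq_zero_iff _ hSinj).1 h1
        rw [map_add, map_smul, Pi.add_apply, Pi.smul_apply, hΦ1, one_mul, smul_eq_mul] at h2
        have h3 := congrArg PowerSeries.constantCoeff h2
        rw [map_add, map_mul, PowerSeries.constantCoeff_X, zero_mul, add_zero, map_zero, hχ] at h3
        exact h3
      obtain ⟨k, wb, hk⟩ := hker i b hb
      have hkey : (c ^ k * c ^ n) • z = (PowerSeries.X : O) • lf ((1 : O) ⊗ₜ[R] wb + c ^ k • w) := by
        rw [mul_smul, hz0, ← map_smul lf (c ^ k), ← map_smul lf (PowerSeries.X : O), smul_add, smul_add,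
          smul_comm (c ^ k) (PowerSeries.X : O)]
        congr 2
        rw [show c ^ k = algebraMap R O (φ (a i) ^ k) by rw [map_pow, hφ], ← hτ, algebraMap_smul, algebraMap_smul,
          ← TensorProduct.tmul_smul, ← TensorProduct.tmul_smul, hk]
      obtain ⟨v, hv⟩ : ∃ v : S, v * algebraMap O S (c ^ k * c ^ n) = 1 := by
        have : IsUnit (algebraMap O S (c ^ k * c ^ n)) := by
          rw [map_mul, map_pow, map_pow]
          exact ((IsLocalization.Away.algebraMap_isUnit c).pow k).mul ((IsLocalization.Away.algebraMap_isUnit c).pow n)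
        obtain ⟨v, hv⟩ := this.exists_left_inv
        exact ⟨v, hv⟩
      refine ⟨v • lf ((1 : O) ⊗ₜ[R] wb + c ^ k • w), ?_⟩
      rw [← Algebra.smul_def, smul_comm, algebraMap_smul, ← hkey, ← algebraMap_smul S (c ^ k * c ^ n) z, smul_smul, hv, one_smul]
    have hbij := sections_bijective (algebraMap O S PowerSeries.X) hX χS hdistS hkerS
    refine ⟨fun z hz => ?_, fun v => ?_⟩
    · have h1 : lf z = 0 := hbij.1 (by
        funext j
        show χS j (lf z) = Pi.algHom S (fun _ : Fin d => S) χS 0 j
        rw [map_zero, hlfΦ, hz, Pi.zero_apply, map_zero]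
        rfl)
      obtain ⟨⟨_, n, rfl⟩, hn⟩ := (IsLocalizedModule.eq_zero_iff (Submonoid.powers c) lf.toLinearMap).1 h1
      exact ⟨n, hn⟩
    · obtain ⟨z, hz⟩ := hbij.2 fun j => algebraMap O S (v j)
      obtain ⟨⟨z0, ⟨_, n, rfl⟩⟩, hz0⟩ := IsLocalizedModule.surj (Submonoid.powers c) lf.toLinearMap z
      change (c ^ n) • z = lf z0 at hz0
      refine ⟨n, z0, funext fun j => hSinj ?_⟩
      rw [← hlfΦ, ← hz0, ← algebraMap_smul S (c ^ n) z, map_smul, Pi.smul_apply, smul_eq_mul, smul_eq_mul, map_mul]
      rw [show χS j z = algebraMap O S (v j) from congrFun hz j]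
  -- gluing after the flat base change
  let gg : Fin m → R := fun i => φ (a i)
  have hgO : ∀ i (n : ℕ) (z : M), PowerSeries.C (a i) ^ n • z = gg i ^ n • z := fun i n z => by
    rw [← algebraMap_smul O (gg i ^ n) z, map_pow, hφ]
  have hα : ∀ n : Fin m → ℕ,
      Function.Injective ((LinearMap.pi fun i => gg i ^ n i • (LinearMap.id : B →ₗ[R] B))) := fun n x y h => by
    rw [← sub_eq_zero]
    refine hzero _ fun i => ⟨n i, ?_⟩
    rw [smul_sub, sub_eq_zero]
    exact congrFun h i
  have hMzero : ∀ z : M, (∀ i, ∃ n : ℕ, gg i ^ n • z = 0) → z = 0 := by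
    intro z hz
    choose n hn using hz
    let α := LinearMap.pi fun i => gg i ^ n i • (LinearMap.id : B →ₗ[R] B)
    have hinj : Function.Injective (α.lTensor O) := Module.Flat.lTensor_preserves_injective_linearMap α (hα n)
    apply hinj
    rw [map_zero]
    apply (TensorProduct.piRight R R O (fun _ : Fin m => B)).injective
    rw [map_zero]
    funext i
    have : ∀ z : M, TensorProduct.piRight R R O (fun _ : Fin m => B) (α.lTensor O z) i = gg i ^ n i • z := fun z => by
      induction z using TensorProduct.induction_on with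
      | zero => simp
      | tmul o b => simp [α, TensorProduct.tmul_smul]
      | add x y hx hy => simp only [map_add, Pi.add_apply, hx, hy, smul_add]
    rw [this, hn]
    rfl
  have hMglue : ∀ (n : Fin m → ℕ) (r : Fin m → M), (∀ i j, gg j ^ n j • r i = gg i ^ n i • r j) →
      ∃ s, ∀ i, gg i ^ n i • s = r i := by
    intro n r hr
    let α := LinearMap.pi fun i => gg i ^ n i • (LinearMap.id : B →ₗ[R] B)
    let β : (Fin m → B) →ₗ[R] (Fin m × Fin m → B) :=
      LinearMap.pi fun p => gg p.2 ^ n p.2 • LinearMap.proj p.1 - gg p.1 ^ n p.1 • LinearMap.proj p.2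
    have hex : Function.Exact α β := fun v => by
      constructor
      · intro hv
        obtain ⟨s, hs⟩ := hglue n v fun i j => sub_eq_zero.1 (congrFun hv (i, j))
        exact ⟨s, funext hs⟩
      · rintro ⟨s, rfl⟩
        funext p
        simp [α, β, smul_comm (gg p.2 ^ n p.2) (gg p.1 ^ n p.1) s]
    have hexO := Module.Flat.lTensor_exact O hex
    let e1 := TensorProduct.piRight R R O (fun _ : Fin m => B)
    let e2 := TensorProduct.piRight R R O (fun _ : Fin m × Fin m => B)
    have hβ : ∀ (w : O ⊗[R] (Fin m → B)) p, e2 (β.lTensor O w) p = gg p.2 ^ n p.2 • e1 w p.1 - gg p.1 ^ n p.1 • e1 w p.2 := fun w p => by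
      induction w using TensorProduct.induction_on with
      | zero => simp
      | tmul o b => simp [e1, e2, β, TensorProduct.tmul_sub, TensorProduct.tmul_smul]
      | add x y hx hy => simp only [map_add, Pi.add_apply, hx, hy, smul_add]; abel
    obtain ⟨s, hs⟩ := (hexO (e1.symm r)).1 (e2.injective (by
      funext p
      rw [hβ, LinearEquiv.apply_symm_apply, hr, sub_self, map_zero]
      rfl))
    refine ⟨s, fun i => ?_⟩
    have : ∀ z : M, e1 (α.lTensor O z) i = gg i ^ n i • z := fun z => by
      induction z using TensorProduct.induction_on with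
      | zero => simp
      | tmul o b => simp [α, e1, TensorProduct.tmul_smul]
      | add x y hx hy => simp only [map_add, Pi.add_apply, hx, hy, smul_add]
    rw [← this, hs, LinearEquiv.apply_symm_apply]
  show Function.Bijective Φ
  have hΦinj : Function.Injective Φ := (injective_iff_map_eq_zero Φ).2 fun z hz => hMzero z fun i => by
    obtain ⟨n, hn⟩ := (hpiece i).1 z hz
    exact ⟨n, (hgO i n z).symm.trans hn⟩
  refine ⟨hΦinj, fun v => ?_⟩
  choose n z hz using fun i => (hpiece i).2 v
  obtain ⟨s, hs⟩ := hMglue n z fun i j => hΦinj (by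
    rw [← hgO, ← hgO, map_smul, map_smul, hz, hz, smul_comm])
  refine ⟨s, funext fun k => ?_⟩
  have h1 : PowerSeries.C (a i₀) ^ n i₀ • Φ s = PowerSeries.C (a i₀) ^ n i₀ • v := by
    rw [← map_smul, hgO, hs, hz]
  exact mul_left_cancel₀ (pow_ne_zero _ fun h => ha i₀ (PowerSeries.C_injective (h.trans (map_zero _).symm))) (congrFun h1 k)

end HenLine
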