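import Groth.Agent.HenLineLib.Scheme
import Groth.Agent.AzInvLib.Local
import Mathlib

/-! Triviality of covers. -/

set_option autoImplicit false
set_option linter.style.haveILetI false
set_option linter.unusedSectionVars false
set_option maxHeartbeats 1000000
universe u

noncomputable section

open CategoryTheory CategoryTheory.Limits AlgebraicGeometry TopologicalSpace
open scoped TensorProduct

namespace HenLine

/-- A function on a disjoint union vanishing on every component is zero. -/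
theorem sigma_appTop_eq_zero {κ : Type} {Z : κ → Scheme.{u}} (z : Γ(∐ Z, ⊤))
    (hz : ∀ j, (Sigma.ι Z j).appTop z = 0) : z = 0 := by
  let P := Polynomial (ULift.{u} ℤ)
  let ev : ∀ (S : Scheme.{u}), Γ(S, ⊤) → (CommRingCat.of P ⟶ Γ(S, ⊤)) := fun S s =>
    CommRingCat.ofHom (Polynomial.eval₂RingHom ((Int.castRingHom Γ(S, ⊤)).comp ULift.ringEquiv.toRingHom) s)
  have hev : ∀ {S T : Scheme.{u}} (f : T ⟶ S) (s : Γ(S, ⊤)), ev S s ≫ f.appTop = ev T (f.appTop s) := fun f s => by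
    refine CommRingCat.hom_ext (Polynomial.ringHom_ext (fun a => ?_) ?_)
    · simp [ev]
    · simp [ev]
  have h : (∐ Z).toSpecΓ ≫ Spec.map (ev _ z) = (∐ Z).toSpecΓ ≫ Spec.map (ev _ 0) := Sigma.hom_ext _ _ fun j => by
    rw [Scheme.toSpecΓ_naturality_assoc, Scheme.toSpecΓ_naturality_assoc, ← Spec.map_comp, ← Spec.map_comp,
      hev, hev, hz, map_zero]
  have h2 := congrArg Scheme.Hom.appTop h
  rw [Scheme.Hom.comp_appTop, Scheme.Hom.comp_appTop, Scheme.toSpecΓ_appTop, Scheme.ΓSpecIso_naturality,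
    Scheme.ΓSpecIso_naturality, cancel_epi] at h2
  have h3 := congrArg (fun f : CommRingCat.of P ⟶ Γ(∐ Z, ⊤) => f Polynomial.X) h2
  exact (Polynomial.eval₂_X _ _).symm.trans (h3.trans (Polynomial.eval₂_X _ _))

theorem isSepClosed_residue_of_surjective {R A : Type u} [CommRing R] [IsLocalRing R] [CommRing A] [IsLocalRing A]
    (ρ : R →+* A) (hρ : Function.Surjective ρ) [IsSepClosed (IsLocalRing.ResidueField A)] :
    IsSepClosed (IsLocalRing.ResidueField R) := by
  haveI : IsLocalHom ρ := IsLocalHom.of_surjective ρ hρ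
  have hb : Function.Bijective (IsLocalRing.ResidueField.map ρ) := by
    refine ⟨RingHom.injective _, fun y => ?_⟩
    obtain ⟨a, rfl⟩ := IsLocalRing.residue_surjective y
    obtain ⟨r, rfl⟩ := hρ a
    exact ⟨IsLocalRing.residue R r, IsLocalRing.ResidueField.map_residue ρ r⟩
  exact AzInvLib.isSepClosed_of_ringEquiv (RingEquiv.ofBijective _ hb).symm

theorem exists_cover {A : Type u} [CommRing A] [IsDomain A] [IsNoetherianRing A]
    (U : (Spec (CommRingCat.of A)).Opens)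
    (hU : ∀ p : PrimeSpectrum A, p ∉ U → (2 : WithBot ℕ∞) ≤ ringKrullDim (Localization.AtPrime p.asIdeal)) :
    ∃ (m : ℕ) (_ : Fin m) (a : Fin m → A), (∀ i, a i ≠ 0) ∧
      (∀ (p : Ideal A) [p.IsPrime], p.height ≤ 1 → ∃ i, a i ∉ p) ∧
      (∀ i, PrimeSpectrum.basicOpen (a i) ≤ U) ∧ (∀ x ∈ U, ∃ i, x ∈ PrimeSpectrum.basicOpen (a i)) := by
  classical
  let U' : Set (PrimeSpectrum A) := U.1
  have hex : ∀ x : U', ∃ a : A, PrimeSpectrum.basicOpen a ≤ U ∧ x.1 ∈ PrimeSpectrum.basicOpen a := by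
    rintro ⟨x, hx⟩
    obtain ⟨_, ⟨a, rfl⟩, hxa, haU⟩ :=
      PrimeSpectrum.isTopologicalBasis_basic_opens.exists_subset_of_mem_open hx U.isOpen
    exact ⟨a, haU, hxa⟩
  choose f hf hxf using hex
  obtain ⟨b, hb⟩ := (TopologicalSpace.NoetherianSpace.isCompact U').elim_finite_subcover
    (fun x => (PrimeSpectrum.basicOpen (f x) : Set (PrimeSpectrum A))) (fun x => (PrimeSpectrum.basicOpen (f x)).isOpen)
    fun x hx => Set.mem_iUnion.2 ⟨⟨x, hx⟩, hxf ⟨x, hx⟩⟩
  let a : Fin b.card → A := fun i => f (b.equivFin.symm i).1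
  have hcov : ∀ x ∈ U, ∃ i, x ∈ PrimeSpectrum.basicOpen (a i) := fun x hx => by
    obtain ⟨z, hz, hxz⟩ := Set.mem_iUnion₂.1 (hb hx)
    exact ⟨b.equivFin ⟨z, hz⟩, by rw [show a (b.equivFin ⟨z, hz⟩) = f z by simp [a]]; exact hxz⟩
  have hht : ∀ (p : Ideal A) [p.IsPrime], p.height ≤ 1 → ∃ i, a i ∉ p := fun p _ hp => by
    have hpU : (⟨p, ‹_›⟩ : PrimeSpectrum A) ∈ U := by
      by_contra hn
      have h2 := hU _ hn
      rw [IsLocalization.AtPrime.ringKrullDim_eq_height p (Localization.AtPrime p)] at h2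
      exact absurd ((WithBot.coe_le_coe.1 h2).trans hp) (by norm_num)
    obtain ⟨i, hi⟩ := hcov _ hpU
    exact ⟨i, hi⟩
  obtain ⟨i₀, -⟩ := hht ⊥ (by rw [Ideal.height_bot]; exact zero_le)
  refine ⟨b.card, i₀, a, fun i h0 => ?_, hht, fun i => hf _, hcov⟩
  have := hxf (b.equivFin.symm i).1
  rw [show f (b.equivFin.symm i).1 = 0 from h0, PrimeSpectrum.basicOpen_zero] at this
  exact this

end HenLine
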