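import Groth.Agent.HenLineLib.Alg
import Groth.Agent.NormalLib.Serre
import Groth.Agent.S0516
import Mathlib

/-! Normal domains and split finite etale algebras. -/

set_option autoImplicit false
set_option linter.style.haveILetI false
set_option linter.unusedSectionVars false
universe u

noncomputable section

open scoped TensorProduct

namespace HenLine

theorem dvd_of_normal {A : Type u} [CommRing A] [IsDomain A] [IsNoetherianRing A] [IsIntegrallyClosed A]
    {u a : A} (hu : u ≠ 0) (h : ∀ (p : Ideal A) [p.IsPrime], p.height ≤ 1 → ∃ t ∉ p, u ∣ t * a) : u ∣ a := by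
  by_contra hn
  have hx : Ideal.Quotient.mk (Ideal.span {u}) a ≠ 0 := fun h0 =>
    hn (Ideal.mem_span_singleton.1 (Ideal.Quotient.eq_zero_iff_mem.1 h0))
  obtain ⟨P, hP, hle⟩ := exists_le_isAssociatedPrime_of_isNoetherianRing (R := A) _ hx
  haveI := hP.isPrime
  have hh := NormalLib.height_eq_one_of_mem_associatedPrimes hu (AssociatedPrimes.mem_iff.2 hP)
  obtain ⟨t, ht, hd⟩ := h P hh.le
  refine ht (hle ?_)
  rw [Submodule.mem_colon_singleton, Submodule.mem_bot, Algebra.smul_def, Ideal.Quotient.algebraMap_eq,
    ← map_mul, Ideal.Quotient.eq_zero_iff_mem, Ideal.mem_span_singleton]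
  exact hd

theorem exists_eq_algebraMap {A : Type u} [CommRing A] [IsDomain A] [IsNoetherianRing A] [IsIntegrallyClosed A]
    {m : ℕ} (a : Fin m → A) (hht : ∀ (p : Ideal A) [p.IsPrime], p.height ≤ 1 → ∃ i, a i ∉ p)
    (z : FractionRing A)
    (hz : ∀ i, ∃ (n : ℕ) (y : A), algebraMap A (FractionRing A) (a i ^ n) * z = algebraMap A _ y) :
    ∃ y : A, z = algebraMap A _ y := by
  obtain ⟨c, d, hd, rfl⟩ := IsFractionRing.div_surjective (A := A) z
  have hd0 : d ≠ 0 := nonZeroDivisors.ne_zero hd
  have hdK : algebraMap A (FractionRing A) d ≠ 0 := (map_ne_zero_iff _ (IsFractionRing.injective A _)).2 hd0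
  obtain ⟨y, hy⟩ := dvd_of_normal hd0 fun p _ hp => by
    obtain ⟨i, hi⟩ := hht p hp
    obtain ⟨n, y, hy⟩ := hz i
    refine ⟨a i ^ n, fun h => hi (‹p.IsPrime›.mem_of_pow_mem n h), y, IsFractionRing.injective A (FractionRing A) ?_⟩
    rw [← mul_div_assoc, div_eq_iff hdK, ← map_mul, ← map_mul] at hy
    rw [hy, mul_comm y d]
  refine ⟨y, ?_⟩
  rw [hy, map_mul, mul_div_cancel_left₀ _ hdK]

/-- An algebra whose base change along a faithfully flat map is a product of copies of the base is
finite etale. -/
theorem finite_etale_of_tensor {R B O : Type u} [CommRing R] [CommRing B] [CommRing O] [Algebra R B] [Algebra R O]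
    [Module.FaithfullyFlat R O] {d : ℕ} (Φ : O ⊗[R] B →ₐ[O] (Fin d → O)) (h : Function.Bijective Φ) :
    Module.Finite R B ∧ Algebra.Etale R B := by
  let e := AlgEquiv.ofBijective Φ h
  haveI : Module.Finite O (O ⊗[R] B) := Module.Finite.equiv e.symm.toLinearEquiv
  haveI : Algebra.Etale O (O ⊗[R] B) := Algebra.Etale.of_equiv e.symm
  exact ⟨Module.Finite.of_finite_tensorProduct_of_faithfullyFlat O,
    Algebra.Etale.of_etale_tensorProduct_of_faithfullyFlat (T := O)⟩

/-- A finite etale algebra over a strictly henselian local ring is split. -/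
theorem exists_pi_equiv {R B : Type u} [CommRing R] [HenselianLocalRing R]
    [IsSepClosed (IsLocalRing.ResidueField R)] [CommRing B] [Algebra R B] [Module.Finite R B] [Algebra.Etale R B] :
    ∃ n : ℕ, Nonempty (B ≃ₐ[R] (Fin n → R)) := by
  classical
  obtain ⟨ι, _, A, _, _, B', _, _, hsurj, htop, ⟨e⟩⟩ := Groth.Agent.S0516.result R B
  haveI : Module.Finite R B' := Module.Finite.of_surjective ((AlgHom.snd R (∀ i, A i) B').comp e.toAlgHom).toLinearMap
    fun y => ⟨e.symm (0, y), by simp⟩
  haveI : Subsingleton B' := by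
    have h : (⊤ : Submodule R B') ≤ IsLocalRing.maximalIdeal R • ⊤ := by
      rw [Ideal.smul_top_eq_map, htop]
      simp
    have := Submodule.eq_bot_of_le_smul_of_le_jacobson_bot _ _ Module.Finite.fg_top h
      (IsLocalRing.maximalIdeal_le_jacobson _)
    exact (Submodule.subsingleton_iff R).1 (subsingleton_of_bot_eq_top this.symm)
  let pr : ∀ i, B →ₗ[R] A i := fun i =>
    (LinearMap.proj i).comp ((LinearMap.fst R (∀ i, A i) B').comp e.toLinearEquiv.toLinearMap)
  have hfree : ∀ i, Nontrivial (A i) → Function.Bijective (algebraMap R (A i)) := fun i hi => by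
    haveI : Module.Finite R (A i) := Module.Finite.of_surjective (Algebra.linearMap R (A i)) (hsurj i)
    haveI : Module.Flat R B := inferInstance
    haveI : Module.Flat R (A i) := Module.Flat.of_retract
      (e.symm.toLinearEquiv.toLinearMap.comp ((LinearMap.inl R (∀ i, A i) B').comp (LinearMap.single R A i)))
      (pr i) (LinearMap.ext fun x => by simp [pr])
    haveI : Module.Free R (A i) := Module.free_of_flat_of_isLocalRing
    exact ⟨FaithfulSMul.algebraMap_injective R (A i), hsurj i⟩
  let J := {i : ι // Nontrivial (A i)}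
  let f : B →ₐ[R] (J → R) := AlgHom.pi fun j =>
    (AlgEquiv.ofBijective (Algebra.ofId R (A j.1)) (hfree j.1 j.2)).symm.toAlgHom.comp
      ((Pi.evalAlgHom R A j.1).comp ((AlgHom.fst R (∀ i, A i) B').comp e.toAlgHom))
  have hf : Function.Bijective f := by
    refine ⟨fun x y h => e.injective (Prod.ext (funext fun i => ?_) (Subsingleton.elim _ _)), fun v => ?_⟩
    · rcases subsingleton_or_nontrivial (A i) with hs | hs
      · exact Subsingleton.elim _ _
      · exact (AlgEquiv.ofBijective (Algebra.ofId R (A i)) (hfree i hs)).symm.injective (congrFun h ⟨i, hs⟩)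
    · refine ⟨e.symm (fun i => if h : Nontrivial (A i) then algebraMap R (A i) (v ⟨i, h⟩) else 0, 0), funext fun j => ?_⟩
      simp only [f, AlgHom.pi_apply, AlgHom.comp_apply, AlgEquiv.coe_toAlgHom, AlgEquiv.apply_symm_apply,
        AlgHom.fst_apply, Pi.evalAlgHom_apply, dif_pos j.2]
      exact (AlgEquiv.symm_apply_eq _).2 rfl
  exact ⟨Fintype.card J, ⟨(AlgEquiv.ofBijective f hf).trans
    (AlgEquiv.piCongrLeft R (fun _ => R) (Fintype.equivFin J))⟩⟩

/-- A map becoming bijective after a faithfully flat base change with one section is bijective. -/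
theorem bijective_algebraMap_of_tensor {R B O : Type u} [CommRing R] [CommRing B] [CommRing O] [Algebra R B]
    [Algebra R O] [Module.FaithfullyFlat R O] (Φ : O ⊗[R] B →ₐ[O] (Fin 1 → O)) (h : Function.Bijective Φ) :
    Function.Bijective (algebraMap R B) := by
  have h1 : Function.Bijective ((Algebra.linearMap R B).lTensor O) := by
    have h2 : ∀ z : O ⊗[R] R, Φ ((Algebra.linearMap R B).lTensor O z) = fun _ => TensorProduct.rid R O z := fun z => by
      induction z using TensorProduct.induction_on with
      | zero => simp; rfl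
      | tmul o r =>
        rw [LinearMap.lTensor_tmul, Algebra.linearMap_apply, Algebra.algebraMap_eq_smul_one, TensorProduct.tmul_smul,
          TensorProduct.smul_tmul', show ((r • o) ⊗ₜ[R] (1 : B)) = algebraMap O (O ⊗[R] B) (r • o) from rfl,
          AlgHom.commutes, TensorProduct.rid_tmul]
        rfl
      | add x y hx hy => simp only [map_add, hx, hy]; rfl
    refine ⟨fun x y hxy => (TensorProduct.rid R O).injective (congrFun (((h2 x).symm.trans (congrArg Φ hxy)).trans (h2 y)) 0),
      fun w => ⟨(TensorProduct.rid R O).symm (Φ w 0), h.1 ?_⟩⟩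
    rw [h2]
    funext k
    rw [LinearEquiv.apply_symm_apply, Subsingleton.elim k 0]
  exact (Module.FaithfullyFlat.lTensor_bijective_iff_bijective R O _).1 h1

end HenLine
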