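import Groth.Prelude.Def_Hensel
import Mathlib

/-! The map from the henselised line to power series. -/

set_option autoImplicit false
set_option linter.style.haveILetI false
set_option linter.unusedSectionVars false
set_option maxHeartbeats 1000000
universe u

noncomputable section

open IsLocalRing Polynomial

namespace HenLine

theorem henselian_quot {R : Type u} [CommRing R] [HenselianLocalRing R] (I : Ideal R) (hI : I ≠ ⊤) :
    HenselianLocalRing (R ⧸ I) := by
  have : Nontrivial (R ⧸ I) := Ideal.Quotient.nontrivial_iff.2 hI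
  have : IsLocalRing (R ⧸ I) := IsLocalRing.of_surjective' _ Ideal.Quotient.mk_surjective
  have hloc : IsLocalHom (Ideal.Quotient.mk I) :=
    IsLocalHom.of_surjective _ Ideal.Quotient.mk_surjective
  refine ⟨fun f hf a₀ h₁ h₂ => ?_⟩
  obtain ⟨g, hg, -, hgm⟩ := Polynomial.lifts_and_degree_eq_and_monic
    (Polynomial.mem_lifts f |>.2 (Polynomial.map_surjective _ Ideal.Quotient.mk_surjective f)) hf
  obtain ⟨b₀, rfl⟩ := Ideal.Quotient.mk_surjective a₀
  subst hg
  rw [Polynomial.eval_map, Polynomial.eval₂_at_apply] at h₁
  rw [Polynomial.derivative_map, Polynomial.eval_map, Polynomial.eval₂_at_apply] at h₂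
  obtain ⟨a, ha, ha'⟩ := HenselianLocalRing.is_henselian g hgm b₀
    (fun h => h₁ (h.map _)) (isUnit_of_map_unit _ _ h₂)
  refine ⟨Ideal.Quotient.mk I a, ?_, ?_⟩
  · rw [IsRoot.def, Polynomial.eval_map, Polynomial.eval₂_at_apply, ha, map_zero]
  · rw [← map_sub]
    exact fun h => ha' (isUnit_of_map_unit _ _ h)

variable {A : Type u} [CommRing A]

theorem mem_maximalIdeal_iff [IsLocalRing A] (z : PowerSeries A) :
    z ∈ maximalIdeal (PowerSeries A) ↔ PowerSeries.constantCoeff z ∈ maximalIdeal A := by
  simp [PowerSeries.isUnit_iff_constantCoeff]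

theorem constantCoeff_eq_zero_iff (z : PowerSeries A) :
    PowerSeries.constantCoeff z = 0 ↔ z ∈ Ideal.span {(PowerSeries.X : PowerSeries A)} := by
  rw [Ideal.mem_span_singleton, PowerSeries.X_dvd_iff]

theorem henselian_powerSeries [HenselianLocalRing A] : HenselianLocalRing (PowerSeries A) := by
  refine ⟨fun f hf z h₁ h₂ => ?_⟩
  let c : PowerSeries A →+* A := PowerSeries.constantCoeff
  obtain ⟨a, ha, ha'⟩ := HenselianLocalRing.is_henselian (f.map c) (hf.map c) (c z)
    (by rw [eval_map, eval₂_at_apply]; exact (mem_maximalIdeal_iff _).1 h₁)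
    (by rw [derivative_map, eval_map, eval₂_at_apply]; exact h₂.map c)
  haveI : HenselianRing (PowerSeries A) (Ideal.span {(PowerSeries.X : PowerSeries A)}) := inferInstance
  have ha0 : (f.eval (PowerSeries.C a)) ∈ Ideal.span {(PowerSeries.X : PowerSeries A)} := by
    rw [← constantCoeff_eq_zero_iff, ← eval₂_at_apply, ← eval_map, PowerSeries.constantCoeff_C]
    exact ha
  have hd : IsUnit (f.derivative.eval (PowerSeries.C a)) := by
    rw [PowerSeries.isUnit_iff_constantCoeff, ← eval₂_at_apply, ← eval_map, PowerSeries.constantCoeff_C,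
      ← derivative_map]
    have h2 : IsUnit ((f.map c).derivative.eval (c z)) := by
      rw [derivative_map, eval_map, eval₂_at_apply]; exact h₂.map c
    have hmem : (f.map c).derivative.eval a - (f.map c).derivative.eval (c z) ∈ maximalIdeal A :=
      Ideal.mem_of_dvd _ (Polynomial.sub_dvd_eval_sub a (c z) _) ha'
    by_contra hn
    exact (IsLocalRing.notMem_maximalIdeal.2 h2) (by
      have := Ideal.sub_mem _ (show (f.map c).derivative.eval a ∈ maximalIdeal A from hn) hmem
      simpa using this)
  obtain ⟨w, hw, hw'⟩ := HenselianRing.is_henselian f hf (PowerSeries.C a) ha0 (hd.map _)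
  refine ⟨w, hw, ?_⟩
  rw [mem_maximalIdeal_iff, map_sub]
  have h3 : PowerSeries.constantCoeff w = a := by
    rw [← constantCoeff_eq_zero_iff, map_sub, sub_eq_zero, PowerSeries.constantCoeff_C] at hw'
    exact hw'
  rw [h3]
  exact ha'

/-- Truncated evaluation. -/
def truncEval {R : Type u} [CommRing R] (φ : A →+* R) (τ : R) (n : ℕ) (hn : 1 ≤ n) :
    PowerSeries A →+* R ⧸ Ideal.span {τ ^ n} := by
  let ev : Polynomial A →+* R ⧸ Ideal.span {τ ^ n} := (Ideal.Quotient.mk _).comp (eval₂RingHom φ τ)
  have hev : ∀ p q : Polynomial A, Polynomial.X ^ n ∣ p - q → ev p = ev q := fun p q ⟨r, hr⟩ => by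
    rw [← sub_eq_zero, ← map_sub, hr, map_mul]
    have : ev (Polynomial.X ^ n) = 0 := by
      show Ideal.Quotient.mk _ (eval₂RingHom φ τ (Polynomial.X ^ n)) = 0
      rw [map_pow, coe_eval₂RingHom, eval₂_X]
      exact Ideal.Quotient.eq_zero_iff_mem.2 (Ideal.mem_span_singleton_self _)
    rw [this, zero_mul]
  exact
    { toFun := fun z => ev (PowerSeries.trunc n z)
      map_one' := by
        obtain ⟨m, rfl⟩ := Nat.exists_eq_succ_of_ne_zero (by omega : n ≠ 0)
        rw [PowerSeries.trunc_one, map_one]
      map_zero' := by rw [map_zero, map_zero]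
      map_add' := fun x y => by rw [map_add, map_add]
      map_mul' := fun x y => by
        rw [← map_mul]
        refine hev _ _ (X_pow_dvd_iff.2 fun d hd => ?_)
        rw [coeff_sub, sub_eq_zero, PowerSeries.coeff_trunc, if_pos hd, ← Polynomial.coeff_coe, Polynomial.coe_mul]
        have := congrArg (fun p : Polynomial A => p.coeff d) (PowerSeries.trunc_trunc_mul_trunc (n := n) x y)
        simp only [PowerSeries.coeff_trunc, if_pos hd] at this
        exact this.symm }

theorem truncEval_apply {R : Type u} [CommRing R] (φ : A →+* R) (τ : R) (n : ℕ) (hn : 1 ≤ n) (z : PowerSeries A) :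
    truncEval φ τ n hn z = Ideal.Quotient.mk _ (eval₂ φ τ (PowerSeries.trunc n z)) := rfl

/-- The map to power series and its properties. -/
theorem setup [IsNoetherianRing A] [HenselianLocalRing A] (P : Ideal (Polynomial A)) [P.IsMaximal]
    (hP : P = (maximalIdeal A).map (Polynomial.C : A →+* Polynomial A) ⊔ Ideal.span {Polynomial.X})
    (R : Type u) [CommRing R] [IsLocalRing R] [IsNoetherianRing R] [Algebra (Localization.AtPrime P) R]
    [IsLocalHom (algebraMap (Localization.AtPrime P) R)] [Hensel.IsHenselization (Localization.AtPrime P) R]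
    (φ : A →+* R) (hφ : φ = (algebraMap (Localization.AtPrime P) R).comp
      ((algebraMap (Polynomial A) (Localization.AtPrime P)).comp Polynomial.C))
    (τ : R) (hτ : τ = algebraMap (Localization.AtPrime P) R (algebraMap (Polynomial A) (Localization.AtPrime P) Polynomial.X)) :
    ∃ ψ : R →+* PowerSeries A, (∀ a, ψ (φ a) = PowerSeries.C a) ∧ ψ τ = PowerSeries.X ∧
      IsLocalHom ψ ∧
      (∀ x, PowerSeries.constantCoeff (ψ x) = 0 ↔ x ∈ Ideal.span {τ}) ∧
      (letI := ψ.toAlgebra; Module.FaithfullyFlat R (PowerSeries A)) := by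
  haveI := henselian_powerSeries (A := A)
  let L := Localization.AtPrime P
  let ι : L →+* R := algebraMap L R
  haveI : HenselianLocalRing R := Hensel.IsHenselization.henselian (R := L)
  let co : Polynomial A →+* PowerSeries A := Polynomial.coeToPowerSeries.ringHom
  have hmem : ∀ p : Polynomial A, p ∈ P ↔ p.coeff 0 ∈ maximalIdeal A := fun p => by
    constructor
    · intro hp
      have hle : P ≤ (maximalIdeal A).comap (Polynomial.constantCoeff) := by
        rw [hP, sup_le_iff, Ideal.map_le_iff_le_comap, Ideal.span_le, Set.singleton_subset_iff]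
        refine ⟨fun a ha => ?_, ?_⟩
        · show Polynomial.constantCoeff (Polynomial.C a) ∈ maximalIdeal A
          simpa using ha
        · show Polynomial.constantCoeff (Polynomial.X : Polynomial A) ∈ maximalIdeal A
          simp
      exact hle hp
    · intro hp
      rw [hP, ← p.X_mul_divX_add]
      exact add_mem (Ideal.mem_sup_right (Ideal.mul_mem_right _ _ (Ideal.mem_span_singleton_self _)))
        (Ideal.mem_sup_left (Ideal.mem_map_of_mem _ hp))
  have hu : ∀ y : P.primeCompl, IsUnit (co y) := fun y => by
    rw [PowerSeries.isUnit_iff_constantCoeff, ← PowerSeries.coeff_zero_eq_constantCoeff_apply]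
    show IsUnit (PowerSeries.coeff 0 ((y : Polynomial A) : PowerSeries A))
    rw [Polynomial.coeff_coe]
    exact IsLocalRing.notMem_maximalIdeal.1 fun h => y.2 ((hmem y).2 h)
  let f : L →+* PowerSeries A := IsLocalization.lift (M := P.primeCompl) hu
  have hf : ∀ p, f (algebraMap (Polynomial A) L p) = (p : PowerSeries A) := fun p => IsLocalization.lift_eq hu p
  haveI : IsLocalHom f := ⟨fun x hx => by
    obtain ⟨⟨p, s⟩, rfl⟩ := IsLocalization.mk'_surjective P.primeCompl x
    rw [IsLocalization.AtPrime.isUnit_mk'_iff]
    intro hp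
    have h1 : IsUnit (f (algebraMap (Polynomial A) L p)) := by
      rw [← IsLocalization.mk'_spec L p s, map_mul]
      exact hx.mul (IsLocalization.map_units L s |>.map f)
    rw [hf, PowerSeries.isUnit_iff_constantCoeff, ← PowerSeries.coeff_zero_eq_constantCoeff_apply, Polynomial.coeff_coe] at h1
    exact (IsLocalRing.notMem_maximalIdeal.2 h1) ((hmem p).1 hp)⟩
  obtain ⟨ψ, hψ, -⟩ := Hensel.IsHenselization.universal (R := L) (S := R) (PowerSeries A) f inferInstance
  have hψ' : ∀ p, ψ (ι (algebraMap (Polynomial A) L p)) = (p : PowerSeries A) := fun p => by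
    rw [← hf]; exact RingHom.congr_fun hψ _
  have hψφ : ∀ a, ψ (φ a) = PowerSeries.C a := fun a => by
    rw [hφ]; show ψ (ι (algebraMap (Polynomial A) L (Polynomial.C a))) = _
    rw [hψ', Polynomial.coe_C]
  have hψτ : ψ τ = PowerSeries.X := by rw [hτ]; show ψ (ι _) = _; rw [hψ', Polynomial.coe_X]
  haveI hloc : IsLocalHom ψ := ⟨fun x hx => by
    by_contra hn
    have h1 : maximalIdeal R = (maximalIdeal L).map ι := by
      refine le_antisymm ?_ (Ideal.map_le_iff_le_comap.2 fun y hy => map_nonunit ι y hy)
      intro z hz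
      by_contra hz'
      let I := (maximalIdeal L).map ι
      have hI : I ≠ ⊤ := ne_top_of_le_ne_top (maximalIdeal.isMaximal R).ne_top
        (Ideal.map_le_iff_le_comap.2 fun y hy => map_nonunit ι y hy)
      haveI := henselian_quot I hI
      haveI : IsLocalHom (Ideal.Quotient.mk I) := IsLocalHom.of_surjective _ Ideal.Quotient.mk_surjective
      let π : L →+* ResidueField L := residue L
      haveI : HenselianLocalRing (ResidueField L) := ⟨fun g hg a h h' => ⟨a, by
        simpa [IsRoot.def] using h, by simp⟩⟩
      obtain ⟨g, hg, -⟩ := Hensel.IsHenselization.universal (R := L) (S := R) (ResidueField L) π inferInstance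
      let j : ResidueField L →+* R ⧸ I := Ideal.Quotient.lift (maximalIdeal L) ((Ideal.Quotient.mk I).comp ι)
        fun y hy => Ideal.Quotient.eq_zero_iff_mem.2 (Ideal.mem_map_of_mem _ hy)
      obtain ⟨g', -, huniq⟩ := Hensel.IsHenselization.universal (R := L) (S := R) (R ⧸ I) ((Ideal.Quotient.mk I).comp ι)
        (RingHom.isLocalHom_comp _ _)
      have e1 := huniq (Ideal.Quotient.mk I) rfl
      have e2 := huniq (j.comp g) (by show (j.comp g).comp ι = _; rw [RingHom.comp_assoc, hg]; rfl)
      have e3 : Ideal.Quotient.mk I z = j (g z) := RingHom.congr_fun (e1.trans e2.symm) z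
      haveI : IsLocalHom g := ⟨fun w hw => by
        by_contra hw'
        have : g w ≠ 0 := hw.ne_zero
        have hne : Ideal.Quotient.mk I w = j (g w) := RingHom.congr_fun (e1.trans e2.symm) w
        exact hw' ((isUnit_map_iff (Ideal.Quotient.mk I) w).1 (by rw [hne]; exact hw.map j))⟩
      have hgz : g z = 0 := by
        by_contra h0
        exact hz ((isUnit_map_iff g z).1 (Ne.isUnit h0))
      rw [hgz, map_zero] at e3
      exact hz' (Ideal.Quotient.eq_zero_iff_mem.1 e3)
    have h2 : (maximalIdeal R).map ψ ≤ maximalIdeal (PowerSeries A) := by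
      rw [h1, Ideal.map_map, Ideal.map_le_iff_le_comap]
      intro y hy
      show ψ (ι y) ∈ maximalIdeal (PowerSeries A)
      rw [show ψ (ι y) = f y from RingHom.congr_fun hψ y]
      exact map_nonunit f y hy
    exact (IsLocalRing.notMem_maximalIdeal.2 hx) (h2 (Ideal.mem_map_of_mem _ hn))⟩
  have hτm : τ ∈ maximalIdeal R := fun hu => by
    have := hu.map ψ
    rw [hψτ, PowerSeries.isUnit_iff_constantCoeff, PowerSeries.constantCoeff_X] at this
    exact not_isUnit_zero this
  have hinj : ∀ n, 1 ≤ n → ∀ x, PowerSeries.trunc n (ψ x) = 0 → x ∈ Ideal.span {τ ^ n} := by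
    intro n hn x hx
    let I := Ideal.span {τ ^ n}
    have hI : I ≠ ⊤ := ne_top_of_le_ne_top (maximalIdeal.isMaximal R).ne_top
      ((Ideal.span_singleton_le_iff_mem _).2 (Ideal.pow_mem_of_mem _ hτm n hn))
    haveI := henselian_quot I hI
    haveI : IsLocalHom (Ideal.Quotient.mk I) := IsLocalHom.of_surjective _ Ideal.Quotient.mk_surjective
    obtain ⟨g, -, huniq⟩ := Hensel.IsHenselization.universal (R := L) (S := R) (R ⧸ I) ((Ideal.Quotient.mk I).comp ι)
      (RingHom.isLocalHom_comp _ _)
    have e1 := huniq (Ideal.Quotient.mk I) rfl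
    have e2 := huniq ((truncEval φ τ n hn).comp ψ) (by
      refine IsLocalization.ringHom_ext P.primeCompl (RingHom.ext fun p => ?_)
      show truncEval φ τ n hn (ψ (ι (algebraMap (Polynomial A) L p))) = Ideal.Quotient.mk I (ι (algebraMap (Polynomial A) L p))
      rw [hψ']
      have h : (truncEval φ τ n hn).comp co = (Ideal.Quotient.mk I).comp (ι.comp (algebraMap (Polynomial A) L)) := by
        refine Polynomial.ringHom_ext (fun a => ?_) ?_
        · show truncEval φ τ n hn ((Polynomial.C a : Polynomial A) : PowerSeries A) = _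
          obtain ⟨m, rfl⟩ := Nat.exists_eq_succ_of_ne_zero (by omega : n ≠ 0)
          rw [truncEval_apply, Polynomial.coe_C, PowerSeries.trunc_C, eval₂_C, hφ]
          rfl
        · show truncEval φ τ n hn ((Polynomial.X : Polynomial A) : PowerSeries A) = _
          rw [truncEval_apply, Polynomial.coe_X]
          show _ = Ideal.Quotient.mk I (ι (algebraMap (Polynomial A) L Polynomial.X))
          rw [show ι (algebraMap (Polynomial A) L Polynomial.X) = τ from hτ.symm]
          rcases Nat.lt_or_ge n 2 with h2 | h2
          · obtain rfl : n = 1 := by omega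
            rw [show PowerSeries.trunc 1 (PowerSeries.X : PowerSeries A) = 0 by
              ext d; rw [PowerSeries.coeff_trunc]; split_ifs with h <;> simp [PowerSeries.coeff_X]; omega]
            rw [eval₂_zero, map_zero, eq_comm, Ideal.Quotient.eq_zero_iff_mem]
            simp [I, Ideal.mem_span_singleton_self]
          · obtain ⟨m, rfl⟩ := Nat.exists_eq_add_of_le h2
            rw [show PowerSeries.trunc (2 + m) (PowerSeries.X : PowerSeries A) = Polynomial.X by
              ext d; rw [PowerSeries.coeff_trunc, PowerSeries.coeff_X, Polynomial.coeff_X]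
              split_ifs <;> first | rfl | omega]
            rw [eval₂_X]
      exact RingHom.congr_fun h p)
    have := RingHom.congr_fun (e1.trans e2.symm) x
    rw [RingHom.comp_apply, truncEval_apply, hx, eval₂_zero, map_zero] at this
    exact Ideal.Quotient.eq_zero_iff_mem.1 this
  refine ⟨ψ, hψφ, hψτ, hloc, fun x => ⟨fun hx => ?_, fun hx => ?_⟩, ?_⟩
  · have := hinj 1 le_rfl x (by ext d; rw [PowerSeries.coeff_trunc]; split_ifs with h
                                · obtain rfl : d = 0 := by omega
                                  simpa using hx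
                                · simp)
    simpa using this
  · obtain ⟨y, rfl⟩ := Ideal.mem_span_singleton.1 hx
    rw [map_mul, hψτ, map_mul, PowerSeries.constantCoeff_X, zero_mul]
  · letI : Algebra R (PowerSeries A) := ψ.toAlgebra
    let I : Ideal R := Ideal.span {τ}
    have htop : ∀ n, (I ^ n • ⊤ : Submodule R R) = Ideal.span {τ ^ n} := fun n => by
      rw [smul_eq_mul, Ideal.mul_top, Ideal.span_singleton_pow]
    have hdvd : ∀ (n : ℕ) (x y : R), (Submodule.Quotient.mk x : R ⧸ (I ^ n • ⊤ : Submodule R R)) = Submodule.Quotient.mk y →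
        ∀ k < n, PowerSeries.coeff k (ψ x) = PowerSeries.coeff k (ψ y) := fun n x y h k hk => by
      rw [Submodule.Quotient.eq, htop, Ideal.mem_span_singleton] at h
      obtain ⟨c, hc⟩ := h
      have h2 : PowerSeries.X ^ n ∣ ψ x - ψ y := ⟨ψ c, by rw [← map_sub, hc, map_mul, map_pow, hψτ]⟩
      exact sub_eq_zero.1 (by rw [← map_sub]; exact PowerSeries.X_pow_dvd_iff.1 h2 k hk)
    choose rep hrep using fun (z : AdicCompletion I R) (n : ℕ) => Submodule.Quotient.mk_surjective _ (z.val n)
    have hkey : ∀ (z : AdicCompletion I R) (n : ℕ) (k : ℕ), k < n →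
        PowerSeries.coeff k (ψ (rep z n)) = PowerSeries.coeff k (ψ (rep z (k + 1))) := fun z n k hk => by
      refine hdvd (k + 1) _ _ ?_ k (Nat.lt_succ_self k)
      rw [hrep z (k + 1), ← z.property (Nat.succ_le_of_lt hk), ← hrep z n]
      rfl
    let Φ : AdicCompletion I R →ₗ[R] PowerSeries A :=
      { toFun := fun z => PowerSeries.mk fun k => PowerSeries.coeff k (ψ (rep z (k + 1)))
        map_add' := fun z w => by
          ext k
          rw [PowerSeries.coeff_mk, map_add, PowerSeries.coeff_mk, PowerSeries.coeff_mk, ← map_add, ← map_add]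
          refine hdvd (k + 1) _ _ ?_ k (Nat.lt_succ_self k)
          rw [hrep, Submodule.Quotient.mk_add, hrep, hrep]
          rfl
        map_smul' := fun r z => by
          ext k
          rw [PowerSeries.coeff_mk, RingHom.id_apply]
          show _ = PowerSeries.coeff k (ψ r * PowerSeries.mk fun k => PowerSeries.coeff k (ψ (rep z (k + 1))))
          rw [PowerSeries.coeff_mul]
          rw [Finset.sum_congr rfl (g := fun p => PowerSeries.coeff p.1 (ψ r) * PowerSeries.coeff p.2 (ψ (rep z (k + 1))))
            fun p hp => by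
              rw [PowerSeries.coeff_mk]
              congr 1
              exact (hkey z (k + 1) p.2 (Nat.lt_succ_of_le (by have := Finset.HasAntidiagonal.mem_antidiagonal.1 hp; omega))).symm]
          rw [← PowerSeries.coeff_mul, ← map_mul]
          refine hdvd (k + 1) _ _ ?_ k (Nat.lt_succ_self k)
          rw [hrep, ← smul_eq_mul, Submodule.Quotient.mk_smul, hrep]
          rfl }
    have hΦ : Function.Bijective Φ := by
      refine ⟨(injective_iff_map_eq_zero Φ).2 fun z hz => ?_, fun w => ?_⟩
      · refine AdicCompletion.ext fun n => ?_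
        rw [← hrep z n]
        show (Submodule.Quotient.mk (rep z n) : R ⧸ (I ^ n • ⊤ : Submodule R R)) = 0
        rw [Submodule.Quotient.mk_eq_zero, htop]
        rcases Nat.eq_zero_or_pos n with rfl | hn
        · simp
        refine hinj n hn _ (Polynomial.ext fun d => ?_)
        rw [PowerSeries.coeff_trunc, Polynomial.coeff_zero]
        split_ifs with hd
        · rw [hkey z n d hd]
          have := congrArg (PowerSeries.coeff d) hz
          simpa [Φ] using this
        · rfl
      · let s : ℕ → R := fun n => eval₂ φ τ (PowerSeries.trunc n w)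
        have hψev : ∀ p : Polynomial A, ψ (eval₂ φ τ p) = (p : PowerSeries A) := fun p => by
          have h : ψ.comp (eval₂RingHom φ τ) = co := Polynomial.ringHom_ext (fun a => by
              show ψ (eval₂ φ τ (Polynomial.C a)) = ((Polynomial.C a : Polynomial A) : PowerSeries A)
              rw [eval₂_C, hψφ, Polynomial.coe_C])
            (by show ψ (eval₂ φ τ Polynomial.X) = ((Polynomial.X : Polynomial A) : PowerSeries A)
                rw [eval₂_X, hψτ, Polynomial.coe_X])
          exact RingHom.congr_fun h p
        obtain ⟨z, hz⟩ : ∃ z : AdicCompletion I R, ∀ n, z.val n = Submodule.Quotient.mk (s n) := by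
          refine ⟨⟨fun n => Submodule.Quotient.mk (s n), fun {m n} hmn => ?_⟩, fun n => rfl⟩
          show (Submodule.Quotient.mk (s n) : R ⧸ (I ^ m • ⊤ : Submodule R R)) = Submodule.Quotient.mk (s m)
          rw [Submodule.Quotient.eq, htop]
          rcases Nat.eq_zero_or_pos m with rfl | hm
          · simp
          refine hinj m hm _ (Polynomial.ext fun d => ?_)
          rw [map_sub, map_sub, hψev, hψev, coeff_sub, Polynomial.coeff_zero, PowerSeries.coeff_trunc, PowerSeries.coeff_trunc]
          split_ifs with hd
          · rw [Polynomial.coeff_coe, Polynomial.coeff_coe, PowerSeries.coeff_trunc, PowerSeries.coeff_trunc,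
              if_pos hd, if_pos (lt_of_lt_of_le hd hmn), sub_self]
          · exact sub_self _
        refine ⟨z, ?_⟩
        ext k
        show PowerSeries.coeff k (PowerSeries.mk fun k => PowerSeries.coeff k (ψ (rep z (k + 1)))) = _
        rw [PowerSeries.coeff_mk, hdvd (k + 1) (rep z (k + 1)) (s (k + 1)) ((hrep z _).trans (hz _)) k (Nat.lt_succ_self k),
          hψev, Polynomial.coeff_coe, PowerSeries.coeff_trunc, if_pos (Nat.lt_succ_self k)]
    haveI : Module.Flat R (PowerSeries A) := Module.Flat.of_linearEquiv (LinearEquiv.ofBijective Φ hΦ).symm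
    haveI : IsLocalHom (algebraMap R (PowerSeries A)) := hloc
    exact Module.FaithfullyFlat.of_flat_of_isLocalHom

end HenLine
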