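import Groth.Agent.HenLineLib.Norm
import Groth.Agent.FEtSplitLib.Basic
import Mathlib

/-! Global sections of finite etale covers of the preimage of a big open subset. -/

set_option autoImplicit false
set_option linter.style.haveILetI false
set_option linter.unusedSectionVars false
set_option maxHeartbeats 1000000
universe u

noncomputable section

open CategoryTheory CategoryTheory.Limits AlgebraicGeometry TopologicalSpace Opposite
open scoped TensorProduct

namespace HenLine

/-- The map on global sections of a morphism to an affine scheme. -/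
abbrev structHom {R : Type u} [CommRing R] {W : Scheme.{u}} (g : W ⟶ Spec (CommRingCat.of R)) : R →+* Γ(W, ⊤) :=
  ((Scheme.ΓSpecIso (CommRingCat.of R)).inv ≫ g.appTop).hom

theorem structHom_comp {R : Type u} [CommRing R] {Z W : Scheme.{u}} (s : Z ⟶ W)
    (g : W ⟶ Spec (CommRingCat.of R)) (r : R) : structHom (s ≫ g) r = s.appTop (structHom g r) := rfl

theorem structHom_specMap {R S : Type u} [CommRing R] [CommRing S] (f : R →+* S) (r : R) :
    structHom (Spec.map (CommRingCat.ofHom f)) r = (Scheme.ΓSpecIso (CommRingCat.of S)).inv (f r) := by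
  show ((Scheme.ΓSpecIso (CommRingCat.of R)).inv ≫ (Spec.map (CommRingCat.ofHom f)).appTop) r = _
  rw [← Scheme.ΓSpecIso_inv_naturality]
  rfl

theorem structHom_comp_specMap {R S : Type u} [CommRing R] [CommRing S] {W : Scheme.{u}}
    (g : W ⟶ Spec (CommRingCat.of S)) (f : R →+* S) (r : R) :
    structHom (g ≫ Spec.map (CommRingCat.ofHom f)) r = structHom g (f r) := by
  rw [structHom_comp, structHom_specMap]
  rfl

theorem preimage_basicOpen {R : Type u} [CommRing R] {W : Scheme.{u}} (g : W ⟶ Spec (CommRingCat.of R)) (r : R) :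
    g ⁻¹ᵁ (PrimeSpectrum.basicOpen r) = W.basicOpen (structHom g r) := by
  rw [← basicOpen_eq_of_affine (R := CommRingCat.of R) r]
  exact g.preimage_basicOpen_top _

@[reducible] def algebraSpecAux (R : CommRingCat.{u}) (O : (Spec R).Opens) : Algebra R Γ(Spec R, O) := inferInstance

theorem isLocalizationSpecAux (R : CommRingCat.{u}) (f : R) :
    IsLocalization.Away f Γ(Spec R, (PrimeSpectrum.basicOpen f : (Spec R).Opens)) := inferInstance

instance algebraSpec {A : Type u} [CommRing A] (O : (Spec (CommRingCat.of A)).Opens) :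
    Algebra A Γ(Spec (CommRingCat.of A), O) :=
  algebraSpecAux (CommRingCat.of A) O

instance isLocalizationSpec {A : Type u} [CommRing A] (f : A) :
    IsLocalization.Away f Γ(Spec (CommRingCat.of A), (PrimeSpectrum.basicOpen f : (Spec (CommRingCat.of A)).Opens)) :=
  isLocalizationSpecAux (CommRingCat.of A) f

theorem algebraMap_spec {A : Type u} [CommRing A] (O : (Spec (CommRingCat.of A)).Opens) (y : A) :
    algebraMap A Γ(Spec (CommRingCat.of A), O) y =
      (Spec (CommRingCat.of A)).presheaf.map (homOfLE (le_top : O ≤ ⊤)).op ((Scheme.ΓSpecIso (CommRingCat.of A)).inv y) :=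
  RingHom.congr_fun (IsAffineOpen.algebraMap_Spec_obj (R := CommRingCat.of A) (U := O)) y

/-- The algebraic data of a finite etale cover of an open subset of an affine scheme. -/
theorem sections_data {R : Type u} [CommRing R] [IsNoetherianRing R] {U : (Spec (CommRingCat.of R)).Opens}
    {V : Scheme.{u}} (h : V ⟶ (U : Scheme.{u})) [IsFinite h] [Etale h] {m : ℕ} (a : Fin m → R)
    (hle : ∀ i, PrimeSpectrum.basicOpen (a i) ≤ U) (hcov : ∀ x ∈ U, ∃ i, x ∈ PrimeSpectrum.basicOpen (a i)) :
    letI := (structHom (h ≫ U.ι)).toAlgebra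
    (∀ i, Module.Finite (Localization.Away (a i)) (Localization.Away (a i) ⊗[R] Γ(V, ⊤)) ∧
      Algebra.Etale (Localization.Away (a i)) (Localization.Away (a i) ⊗[R] Γ(V, ⊤))) ∧
    (∀ s : Γ(V, ⊤), (∀ i, ∃ n : ℕ, a i ^ n • s = 0) → s = 0) ∧
    (∀ (n : Fin m → ℕ) (r : Fin m → Γ(V, ⊤)), (∀ i j, a j ^ n j • r i = a i ^ n i • r j) →
      ∃ s, ∀ i, a i ^ n i • s = r i) := by
  classical
  let X := Spec (CommRingCat.of R)
  let g := h ≫ U.ι
  let G := Γ(V, ⊤)
  letI := (structHom g).toAlgebra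
  have hWc : IsCompact ((⊤ : V.Opens) : Set V) :=
    g.isCompact_preimage (isAffineOpen_top X).isCompact
  have hWq : IsQuasiSeparated ((⊤ : V.Opens) : Set V) :=
    g.isQuasiSeparated_preimage (isAffineOpen_top X).isQuasiSeparated
  have hsmul : ∀ (r : R) (s : G), r • s = structHom g r * s := fun r s => rfl
  have hloc : ∀ i, Module.Finite (Localization.Away (a i)) (Localization.Away (a i) ⊗[R] G) ∧
      Algebra.Etale (Localization.Away (a i)) (Localization.Away (a i) ⊗[R] G) := by
    intro i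
    let D : X.Opens := PrimeSpectrum.basicOpen (a i)
    let Ai := Localization.Away (a i)
    let T := Ai ⊗[R] G
    letI : Algebra G T := Algebra.TensorProduct.rightAlgebra
    haveI : IsScalarTower R G T := IsScalarTower.of_algebraMap_eq fun x => by
      rw [RingHom.algebraMap_toAlgebra (Algebra.TensorProduct.includeRight : G →ₐ[R] T).toRingHom]
      exact (AlgHom.commutes (Algebra.TensorProduct.includeRight : G →ₐ[R] T) x).symm
    haveI : IsLocalization (Algebra.algebraMapSubmonoid G (Submonoid.powers (a i))) T :=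
      IsLocalization.tensorRight (R := R) (A := Ai) (S := G) _
    have e0 : Algebra.algebraMapSubmonoid G (Submonoid.powers (a i)) = Submonoid.powers (structHom g (a i)) :=
      Submonoid.map_powers _ _
    haveI : IsLocalization.Away (structHom g (a i)) T := by
      show IsLocalization (Submonoid.powers (structHom g (a i))) T
      rw [← e0]
      infer_instance
    haveI : IsLocalization.Away (structHom g (a i)) Γ(V, V.basicOpen (structHom g (a i))) :=
      isLocalization_basicOpen_of_qcqs hWc hWq _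
    let eA : Ai ≃ₐ[R] Γ(X, D) := IsLocalization.algEquiv (Submonoid.powers (a i)) _ _
    let eR : T ≃ₐ[G] Γ(V, V.basicOpen (structHom g (a i))) :=
      IsLocalization.algEquiv (Submonoid.powers (structHom g (a i))) _ _
    have heq : g ⁻¹ᵁ D = V.basicOpen (structHom g (a i)) := preimage_basicOpen g (a i)
    let rD := g.appLE D (V.basicOpen (structHom g (a i))) heq.ge
    have hDA : IsAffineOpen (U.ι ⁻¹ᵁ D) := (IsAffineOpen.Spec_basicOpen (a i)).preimage_of_isOpenImmersion U.ι
      (by rw [Scheme.Opens.opensRange_ι]; exact hle i)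
    have hprops : rD.hom.Finite ∧ rD.hom.Etale := by
      haveI : IsIso (U.ι.app D) := Scheme.Hom.isIso_app _ _ (by rw [Scheme.Opens.opensRange_ι]; exact hle i)
      have h1 : (h.app (U.ι ⁻¹ᵁ D)).hom.Finite := h.finite_app _ hDA
      have h2 : (h.app (U.ι ⁻¹ᵁ D)).hom.Etale := by
        have := HasRingHomProperty.appLE @Etale h inferInstance ⟨_, hDA⟩ ⟨_, hDA.preimage h⟩ le_rfl
        rwa [← Scheme.Hom.app_eq_appLE] at this
      have p1 : (g.app D).hom.Finite :=
        RingHom.finite_respectsIso.2 _ (asIso (U.ι.app D)).commRingCatIsoToRingEquiv h1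
      have p2 : (g.app D).hom.Etale :=
        RingHom.Etale.respectsIso.2 _ (asIso (U.ι.app D)).commRingCatIsoToRingEquiv h2
      have hr : rD = g.app D ≫ V.presheaf.map (eqToHom heq.symm).op := by
        simp only [rD, Scheme.Hom.appLE]
        rfl
      rw [hr, CommRingCat.hom_comp]
      exact ⟨RingHom.finite_respectsIso.1 _
          (asIso (V.presheaf.map (eqToHom heq.symm).op)).commRingCatIsoToRingEquiv p1,
        RingHom.Etale.respectsIso.1 _
          (asIso (V.presheaf.map (eqToHom heq.symm).op)).commRingCatIsoToRingEquiv p2⟩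
    have key : algebraMap Ai T = (eR.symm.toRingEquiv.toRingHom.comp rD.hom).comp eA.toRingEquiv.toRingHom := by
      refine IsLocalization.ringHom_ext (Submonoid.powers (a i)) (RingHom.ext fun x => ?_)
      show algebraMap Ai T (algebraMap R Ai x) = eR.symm (rD.hom (eA (algebraMap R Ai x)))
      rw [AlgEquiv.commutes, ← IsScalarTower.algebraMap_apply R Ai T, IsScalarTower.algebraMap_apply R G T]
      have h3 : rD.hom (algebraMap R Γ(X, D) x) =
          algebraMap G Γ(V, V.basicOpen (structHom g (a i))) (algebraMap R G x) := by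
        rw [algebraMap_spec]
        show (X.presheaf.map (homOfLE le_top).op ≫ rD).hom ((Scheme.ΓSpecIso (CommRingCat.of R)).inv x) =
          (g.appTop ≫ V.presheaf.map (homOfLE (V.basicOpen_le _)).op).hom ((Scheme.ΓSpecIso (CommRingCat.of R)).inv x)
        rw [Scheme.Hom.map_appLE]
        rfl
      rw [h3, AlgEquiv.commutes]
    have hf : (algebraMap Ai T).Finite ∧ (algebraMap Ai T).Etale := by
      rw [key]
      exact ⟨RingHom.finite_respectsIso.2 _ eA.toRingEquiv
          (RingHom.finite_respectsIso.1 _ eR.symm.toRingEquiv hprops.1),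
        RingHom.Etale.respectsIso.2 _ eA.toRingEquiv
          (RingHom.Etale.respectsIso.1 _ eR.symm.toRingEquiv hprops.2)⟩
    exact ⟨RingHom.finite_algebraMap.1 hf.1, RingHom.etale_algebraMap.1 hf.2⟩
  have hVcov : ∀ v : V, ∃ i, v ∈ V.basicOpen (structHom g (a i)) := fun v => by
    obtain ⟨i, hi⟩ := hcov (g v) (h v).2
    exact ⟨i, preimage_basicOpen g (a i) ▸ hi⟩
  have hzero : ∀ s : G, (∀ i, ∃ n : ℕ, a i ^ n • s = 0) → s = 0 := by
    intro s hs
    refine TopCat.Sheaf.eq_of_locally_eq' V.sheaf (fun i => V.basicOpen (structHom g (a i))) ⊤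
      (fun i => homOfLE (V.basicOpen_le _)) (fun v _ => ?_) s 0 fun i => ?_
    · obtain ⟨i, hi⟩ := hVcov v
      exact Opens.mem_iSup.2 ⟨i, hi⟩
    · haveI : IsLocalization.Away (structHom g (a i)) Γ(V, V.basicOpen (structHom g (a i))) :=
        isLocalization_basicOpen_of_qcqs hWc hWq _
      obtain ⟨n, hn⟩ := hs i
      rw [map_zero]
      refine (IsLocalization.map_eq_zero_iff (Submonoid.powers (structHom g (a i)))
        Γ(V, V.basicOpen (structHom g (a i))) s).2 ⟨⟨_, n, rfl⟩, ?_⟩
      rw [hsmul, map_pow] at hn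
      exact hn
  refine ⟨hloc, hzero, fun n r hr => ?_⟩
  let c : Fin m → G := fun i => structHom g (a i)
  have hu : ∀ i, IsUnit (algebraMap G Γ(V, V.basicOpen (c i)) (c i ^ n i)) := fun i => by
    haveI : IsLocalization.Away (c i) Γ(V, V.basicOpen (c i)) := isLocalization_basicOpen_of_qcqs hWc hWq _
    rw [map_pow]
    exact (IsLocalization.Away.algebraMap_isUnit _).pow _
  let x : ∀ i, Γ(V, V.basicOpen (c i)) := fun i => algebraMap G _ (r i) * ↑(hu i).unit⁻¹
  have hx : ∀ i, algebraMap G Γ(V, V.basicOpen (c i)) (c i ^ n i) * x i = algebraMap G _ (r i) := fun i => by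
    simp only [x]
    rw [mul_left_comm, IsUnit.mul_val_inv, mul_one]
  have hcompat : TopCat.Presheaf.IsCompatible V.presheaf (fun i => V.basicOpen (c i)) x := by
    intro i j
    let O := V.basicOpen (c i) ⊓ V.basicOpen (c j)
    let res : G →+* Γ(V, O) := (V.presheaf.map (homOfLE (le_top : O ≤ ⊤)).op).hom
    let resi := (V.presheaf.map (homOfLE (inf_le_left : O ≤ _)).op).hom
    let resj := (V.presheaf.map (homOfLE (inf_le_right : O ≤ _)).op).hom
    have hρi : ∀ y, resi (algebraMap G _ y) = res y := fun y => by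
      show (V.presheaf.map (homOfLE (V.basicOpen_le _)).op ≫ V.presheaf.map _).hom y = _
      rw [← Functor.map_comp]
      rfl
    have hρj : ∀ y, resj (algebraMap G _ y) = res y := fun y => by
      show (V.presheaf.map (homOfLE (V.basicOpen_le _)).op ≫ V.presheaf.map _).hom y = _
      rw [← Functor.map_comp]
      rfl
    show resi (x i) = resj (x j)
    have h1 := congrArg resi (hx i)
    have h2 := congrArg resj (hx j)
    rw [map_mul, hρi, hρi] at h1
    rw [map_mul, hρj, hρj] at h2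
    have u1 : IsUnit (res (c i ^ n i)) := hρi _ ▸ (hu i).map resi
    have u2 : IsUnit (res (c j ^ n j)) := hρj _ ▸ (hu j).map resj
    have h3 := congrArg res (hr i j)
    rw [hsmul, hsmul, map_pow, map_pow, map_mul, map_mul] at h3
    apply (u1.mul u2).mul_right_injective
    show _ * resi (x i) = _ * resj (x j)
    rw [mul_right_comm, h1, mul_assoc, h2, mul_comm, h3]
  obtain ⟨s, hs, -⟩ := TopCat.Sheaf.existsUnique_gluing' V.sheaf (fun i => V.basicOpen (c i)) ⊤
    (fun i => homOfLE (V.basicOpen_le _))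
    (fun v _ => by obtain ⟨i, hi⟩ := hVcov v; exact Opens.mem_iSup.2 ⟨i, hi⟩) x hcompat
  let s' : G := s
  refine ⟨s', fun i => sub_eq_zero.1 (hzero _ fun j => ?_)⟩
  haveI : IsLocalization.Away (c j) Γ(V, V.basicOpen (c j)) := isLocalization_basicOpen_of_qcqs hWc hWq _
  have hsj : algebraMap G Γ(V, V.basicOpen (c j)) s' = x j := hs j
  have h1 : algebraMap G Γ(V, V.basicOpen (c j)) (a j ^ n j • (a i ^ n i • s' - r i)) = 0 := by
    rw [smul_sub, hr i j, smul_comm, ← smul_sub, hsmul, hsmul, map_mul, map_sub, map_mul, hsj,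
      map_pow (structHom g) (a j), hx j, sub_self, mul_zero]
  obtain ⟨⟨w, k, rfl⟩, hk⟩ := (IsLocalization.map_eq_zero_iff (Submonoid.powers (c j))
    Γ(V, V.basicOpen (c j)) _).1 h1
  refine ⟨k + n j, ?_⟩
  rw [pow_add, mul_smul, hsmul, map_pow]
  exact hk

/-- Functions on a big open subset of a normal affine scheme. -/
theorem bijective_algebraMap_opens {A : Type u} [CommRing A] [IsDomain A] [IsNoetherianRing A] [IsIntegrallyClosed A]
    {m : ℕ} (i₀ : Fin m) (a : Fin m → A) (ha : ∀ i, a i ≠ 0) (hht : ∀ (p : Ideal A) [p.IsPrime], p.height ≤ 1 → ∃ i, a i ∉ p)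
    (O : (Spec (CommRingCat.of A)).Opens) (hle : ∀ i, (PrimeSpectrum.basicOpen (a i) : (Spec (CommRingCat.of A)).Opens) ≤ O)
    (hcov : ∀ x ∈ O, ∃ i, x ∈ PrimeSpectrum.basicOpen (a i)) :
    Function.Bijective (algebraMap A Γ(Spec (CommRingCat.of A), O)) := by
  let X := Spec (CommRingCat.of A)
  have hres : ∀ (O₁ O₂ : X.Opens) (l : O₂ ≤ O₁) (y : A),
      X.presheaf.map (homOfLE l).op (algebraMap A Γ(X, O₁) y) = algebraMap A Γ(X, O₂) y := fun O₁ O₂ l y => by
    rw [algebraMap_spec, algebraMap_spec]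
    show (X.presheaf.map (homOfLE (le_top : O₁ ≤ ⊤)).op ≫ X.presheaf.map (homOfLE l).op) ((Scheme.ΓSpecIso (CommRingCat.of A)).inv y) = _
    rw [← Functor.map_comp]
    rfl
  have hinjD : ∀ b : A, b ≠ 0 → Function.Injective (algebraMap A Γ(X, (PrimeSpectrum.basicOpen b : X.Opens))) :=
    fun b hb => IsLocalization.injective _ (M := Submonoid.powers b) (powers_le_nonZeroDivisors_of_noZeroDivisors hb)
  refine ⟨fun x y hxy => hinjD _ (ha i₀) ?_, fun s => ?_⟩
  · rw [← hres O _ (hle i₀), hxy, hres]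
  let D : Fin m → X.Opens := fun i => PrimeSpectrum.basicOpen (a i)
  let s' : ∀ i, Γ(X, D i) := fun i => X.presheaf.map (homOfLE (show D i ≤ O from hle i)).op s
  have hsurj : ∀ i, ∃ (n : ℕ) (y : A), s' i * algebraMap A Γ(X, D i) (a i ^ n) = algebraMap A Γ(X, D i) y := fun i => by
    obtain ⟨n, y, hy⟩ := IsLocalization.Away.surj (a i) (s' i)
    exact ⟨n, y, by rw [map_pow]; exact hy⟩
  choose n y hy using hsurj
  have hcomp : ∀ i, y i * a i₀ ^ n i₀ = y i₀ * a i ^ n i := fun i => by
    let O' : X.Opens := PrimeSpectrum.basicOpen (a i * a i₀)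
    have l1 : O' ≤ PrimeSpectrum.basicOpen (a i) := PrimeSpectrum.basicOpen_mul_le_left _ _
    have l2 : O' ≤ PrimeSpectrum.basicOpen (a i₀) := PrimeSpectrum.basicOpen_mul_le_right _ _
    refine hinjD _ (mul_ne_zero (ha i) (ha i₀)) ?_
    have h1 := congrArg (X.presheaf.map (homOfLE l1).op) (hy i)
    have h2 := congrArg (X.presheaf.map (homOfLE l2).op) (hy i₀)
    rw [map_mul, hres, hres, ← CategoryTheory.ConcreteCategory.comp_apply, ← Functor.map_comp] at h1 h2
    rw [map_mul, map_mul, ← h1, ← h2, mul_right_comm]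
    rfl
  let K := FractionRing A
  have hne : ∀ i, algebraMap A K (a i ^ n i) ≠ 0 := fun i =>
    (map_ne_zero_iff _ (IsFractionRing.injective A K)).2 (pow_ne_zero _ (ha i))
  obtain ⟨z, hz⟩ := exists_eq_algebraMap a hht (algebraMap A K (y i₀) / algebraMap A K (a i₀ ^ n i₀)) fun i =>
    ⟨n i, y i, by rw [← mul_div_assoc, div_eq_iff (hne i₀), ← map_mul, ← map_mul, hcomp, mul_comm]⟩
  have hzi : ∀ i, y i = z * a i ^ n i := fun i => IsFractionRing.injective A K (by
    rw [map_mul, ← hz, div_mul_eq_mul_div, eq_div_iff (hne i₀), ← map_mul, ← map_mul, hcomp])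
  refine ⟨z, TopCat.Sheaf.eq_of_locally_eq' X.sheaf (fun i => (PrimeSpectrum.basicOpen (a i) : X.Opens)) O
    (fun i => homOfLE (hle i)) (fun x hx => Opens.mem_iSup.2 (hcov x hx)) _ _ fun i => ?_⟩
  refine (((IsLocalization.Away.algebraMap_isUnit (S := Γ(X, (PrimeSpectrum.basicOpen (a i) : X.Opens))) (a i)).pow (n i))).mul_left_injective ?_
  have h1 := hy i
  rw [hzi i, map_mul, map_pow] at h1
  show X.presheaf.map (homOfLE _).op (algebraMap A Γ(X, O) z) * _ = s' i * _
  rw [hres]
  exact h1.symm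

theorem bijective_structHom_opens {A : Type u} [CommRing A] [IsDomain A] [IsNoetherianRing A] [IsIntegrallyClosed A]
    {m : ℕ} (i₀ : Fin m) (a : Fin m → A) (ha : ∀ i, a i ≠ 0) (hht : ∀ (p : Ideal A) [p.IsPrime], p.height ≤ 1 → ∃ i, a i ∉ p)
    (U : (Spec (CommRingCat.of A)).Opens) (hle : ∀ i, PrimeSpectrum.basicOpen (a i) ≤ U)
    (hcov : ∀ x ∈ U, ∃ i, x ∈ PrimeSpectrum.basicOpen (a i)) : Function.Bijective (structHom U.ι) := by
  have h := bijective_algebraMap_opens i₀ a ha hht (U.ι ''ᵁ ⊤) (by rwa [U.ι_image_top]) (by rwa [U.ι_image_top])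
  have he : ∀ y, structHom U.ι y = algebraMap A Γ(Spec (CommRingCat.of A), U.ι ''ᵁ ⊤) y := fun y => by
    rw [algebraMap_spec]
    rfl
  exact ⟨fun x y hxy => h.1 (((he x).symm.trans hxy).trans (he y)), fun z => by
    obtain ⟨y, hy⟩ := h.2 z
    exact ⟨y, (he y).trans hy⟩⟩

/-- The sections of a cover with enough sections over `τ = 0`. -/
theorem exists_tensor {A R : Type u} [CommRing A] [IsDomain A] [IsNoetherianRing A] [IsIntegrallyClosed A]
    [CommRing R] [IsNoetherianRing R] [Algebra R (PowerSeries A)] [Module.FaithfullyFlat R (PowerSeries A)]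
    (φ : A →+* R) (hφ : ∀ x, algebraMap R (PowerSeries A) (φ x) = PowerSeries.C x)
    (τ : R) (hτ : algebraMap R (PowerSeries A) τ = PowerSeries.X)
    (ρ : R →+* A) (hρ : ∀ r, ρ r = PowerSeries.constantCoeff (algebraMap R (PowerSeries A) r))
    {m : ℕ} (i₀ : Fin m) (a : Fin m → A) (ha : ∀ i, a i ≠ 0)
    (hht : ∀ (p : Ideal A) [p.IsPrime], p.height ≤ 1 → ∃ i, a i ∉ p)
    (U : (Spec (CommRingCat.of A)).Opens) (hle : ∀ i, PrimeSpectrum.basicOpen (a i) ≤ U)
    (hcov : ∀ x ∈ U, ∃ i, x ∈ PrimeSpectrum.basicOpen (a i))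
    {W : Scheme.{u}} (h : W ⟶ ((Spec.map (CommRingCat.ofHom φ)) ⁻¹ᵁ U : (Spec (CommRingCat.of R)).Opens))
    [IsFinite h] [Etale h] {d : ℕ} (t : Fin d → ((U : Scheme.{u}) ⟶ W))
    (ht : ∀ j, t j ≫ h ≫ Scheme.Opens.ι _ = U.ι ≫ Spec.map (CommRingCat.ofHom ρ))
    (hinj : Function.Injective t)
    (hjoint : ∀ b : Γ(W, ⊤), (∀ j, (t j).appTop b = 0) → ∀ (Q : Type u) [CommRing Q] (q : Spec (CommRingCat.of Q) ⟶ W),
      structHom (q ≫ h ≫ Scheme.Opens.ι _) τ = 0 → q.appTop b = 0) :
    letI := (structHom (h ≫ Scheme.Opens.ι _)).toAlgebra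
    ∃ Φ : PowerSeries A ⊗[R] Γ(W, ⊤) →ₐ[PowerSeries A] (Fin d → PowerSeries A), Function.Bijective Φ := by
  classical
  let V : (Spec (CommRingCat.of R)).Opens := (Spec.map (CommRingCat.ofHom φ)) ⁻¹ᵁ U
  let g := h ≫ V.ι
  let B := Γ(W, ⊤)
  letI := (structHom g).toAlgebra
  have hleV : ∀ i, PrimeSpectrum.basicOpen (φ (a i)) ≤ V := fun i x hx => hle i hx
  have hcovV : ∀ x ∈ V, ∃ i, x ∈ PrimeSpectrum.basicOpen (φ (a i)) := fun x hx => hcov _ hx
  obtain ⟨hloc, hzero, hglue⟩ := sections_data h (fun i => φ (a i)) hleV hcovV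
  have hb := bijective_structHom_opens i₀ a ha hht U hle hcov
  let eU : A ≃+* Γ((U : Scheme.{u}), ⊤) := RingEquiv.ofBijective (structHom U.ι) hb
  let χ0 : Fin d → (B →+* A) := fun j => eU.symm.toRingHom.comp (t j).appTop.hom
  have hχ : ∀ j b, eU (χ0 j b) = (t j).appTop b := fun j b => eU.apply_symm_apply _
  have hχ0 : ∀ j r, χ0 j (algebraMap R B r) = PowerSeries.constantCoeff (algebraMap R (PowerSeries A) r) := by
    intro j r
    apply eU.injective
    rw [hχ, ← hρ]
    show _ = structHom U.ι (ρ r)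
    rw [← structHom_comp_specMap, ← ht j]
    rfl
  haveI : QuasiCompact V.ι := inferInstance
  haveI : CompactSpace ↥(V : Scheme.{u}) := QuasiCompact.compactSpace_of_compactSpace V.ι
  haveI : (V : Scheme.{u}).IsQuasiAffine := Scheme.IsQuasiAffine.of_isImmersion V.ι
  haveI : W.IsQuasiAffine := Scheme.IsQuasiAffine.of_isAffineHom h
  have hdist : ∀ i j, i ≠ j → χ0 i ≠ χ0 j := fun i j hij he => hij (hinj (by
    have h2 : (t i).appTop = (t j).appTop := CommRingCat.hom_ext (RingHom.ext fun b => by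
      rw [← hχ, ← hχ, he])
    rw [← cancel_mono W.toSpecΓ, Scheme.toSpecΓ_naturality, Scheme.toSpecΓ_naturality, h2]))
  have hker : ∀ i (b : B), (∀ j, χ0 j b = 0) → ∃ (k : ℕ) (w : B), φ (a i) ^ k • b = τ • w := by
    intro i b hb'
    let f : B := structHom g (φ (a i))
    have hDA : IsAffineOpen (V.ι ⁻¹ᵁ (PrimeSpectrum.basicOpen (φ (a i)) : (Spec (CommRingCat.of R)).Opens)) :=
      (IsAffineOpen.Spec_basicOpen (φ (a i))).preimage_of_isOpenImmersion V.ι
        (by rw [Scheme.Opens.opensRange_ι]; exact hleV i)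
    have hWi : IsAffineOpen (W.basicOpen f) := by
      rw [← preimage_basicOpen g (φ (a i))]
      exact hDA.preimage h
    haveI : IsLocalization.Away f Γ(W, W.basicOpen f) :=
      isLocalization_basicOpen_of_qcqs isCompact_univ isQuasiSeparated_univ f
    let S := Γ(W, W.basicOpen f)
    let I : Ideal S := Ideal.span {algebraMap B S (structHom g τ)}
    let q : Spec (CommRingCat.of (S ⧸ I)) ⟶ W :=
      Spec.map (CommRingCat.ofHom (Ideal.Quotient.mk I)) ≫ hWi.fromSpec
    have hq : ∀ y : B, q.appTop y = (Scheme.ΓSpecIso (CommRingCat.of (S ⧸ I))).inv (Ideal.Quotient.mk I (algebraMap B S y)) := by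
      intro y
      have h1 : hWi.fromSpec.appTop = W.presheaf.map (homOfLE le_top).op ≫ (Scheme.ΓSpecIso Γ(W, W.basicOpen f)).inv := by
        rw [Scheme.Hom.appTop, hWi.fromSpec_app_of_le ⊤ le_top]
        simp
      show (hWi.fromSpec.appTop ≫ (Spec.map (CommRingCat.ofHom (Ideal.Quotient.mk I))).appTop) y = _
      rw [h1, Category.assoc, ← Scheme.ΓSpecIso_inv_naturality]
      rfl
    have hτ0 : structHom (q ≫ g) τ = 0 := by
      rw [structHom_comp, hq, Ideal.Quotient.eq_zero_iff_mem.2 (Ideal.mem_span_singleton_self _), map_zero]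
    have hb0 := hjoint b (fun j => by rw [← hχ, hb', map_zero]) (S ⧸ I) q hτ0
    rw [hq] at hb0
    replace hb0 := Ideal.mem_span_singleton.1 (Ideal.Quotient.eq_zero_iff_mem.1
      ((Scheme.ΓSpecIso (CommRingCat.of (S ⧸ I))).symm.commRingCatIsoToRingEquiv.injective (hb0.trans (map_zero _).symm)))
    obtain ⟨c, hc⟩ := hb0
    obtain ⟨k, w, hw⟩ := IsLocalization.Away.surj f c
    have h2 : algebraMap B S (b * f ^ k) = algebraMap B S (structHom g τ * w) := by
      rw [map_mul, map_mul, hc, map_pow, mul_assoc, hw]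
    obtain ⟨⟨_, l, rfl⟩, hl⟩ := IsLocalization.exists_of_eq (M := Submonoid.powers f) h2
    refine ⟨l + k, f ^ l * w, ?_⟩
    rw [Algebra.smul_def, Algebra.smul_def, map_pow]
    show f ^ (l + k) * b = structHom g τ * (f ^ l * w)
    rw [pow_add, mul_left_comm (structHom g τ), ← hl]
    ring
  obtain ⟨χ, hχ'⟩ := tensor_bijective φ hφ τ hτ i₀ a ha (fun i => (hloc i).1) (fun i => (hloc i).2) hzero hglue
    (fun z hz => exists_eq_algebraMap a hht z hz) χ0 hχ0 hdist hker
  exact ⟨_, hχ'⟩

/-- A cover with split global sections is split. -/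
theorem splits_of_pi_equiv {R : Type u} [CommRing R] [IsNoetherianRing R] {V : (Spec (CommRingCat.of R)).Opens}
    (hbij : Function.Bijective (structHom V.ι)) {W : Scheme.{u}} (h : W ⟶ (V : Scheme.{u})) [IsFinite h] {n : ℕ}
    (e : letI := (structHom (h ≫ V.ι)).toAlgebra; Γ(W, ⊤) ≃ₐ[R] (Fin n → R)) :
    FEtSplit.Splits (ULift.{u} (Fin n)) h := by
  letI := (structHom (h ≫ V.ι)).toAlgebra
  let κ := ULift.{u} (Fin n)
  let B := Γ(W, ⊤)
  let e' : B ≃ₐ[R] (κ → R) := e.trans (AlgEquiv.piCongrLeft R (fun _ => R) Equiv.ulift.symm)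
  let E₁ : CommRingCat.of B ⟶ CommRingCat.of (κ → R) := CommRingCat.ofHom e'.toRingEquiv.toRingHom
  haveI : IsIso E₁ := (ConcreteCategory.isIso_iff_bijective _).2 e'.bijective
  haveI : IsIso (Spec.map E₁) := inferInstance
  let E : (∐ fun _ : κ => Spec (CommRingCat.of R)) ≅ Spec (CommRingCat.of B) :=
    asIso (sigmaSpec fun _ : κ => CommRingCat.of R) ≪≫ asIso (Spec.map E₁)
  have hE : E.inv ≫ Sigma.desc (fun _ : κ => 𝟙 _) = Spec.map (CommRingCat.ofHom (structHom (h ≫ V.ι))) := by
    rw [Iso.inv_comp_eq]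
    refine Sigma.hom_ext _ _ fun j => ?_
    rw [Sigma.ι_desc]
    simp only [E, E₁, Iso.trans_hom, asIso_hom, Category.assoc]
    rw [ι_sigmaSpec_assoc, ← Spec.map_comp, ← Spec.map_comp, ← Spec.map_id]
    congr 1
    exact CommRingCat.hom_ext (RingHom.ext fun r => (congrFun (e'.commutes r) j).symm)
  have hS : FEtSplit.Splits κ (Spec.map (CommRingCat.ofHom (structHom (h ≫ V.ι)))) := ⟨E.symm, hE⟩
  haveI : QuasiCompact V.ι := inferInstance
  haveI : CompactSpace ↥(V : Scheme.{u}) := QuasiCompact.compactSpace_of_compactSpace V.ι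
  haveI : (V : Scheme.{u}).IsQuasiAffine := Scheme.IsQuasiAffine.of_isImmersion V.ι
  haveI : IsIso (Spec.map ((Scheme.ΓSpecIso (CommRingCat.of R)).inv ≫ V.ι.appTop)) := by
    haveI hi : IsIso ((Scheme.ΓSpecIso (CommRingCat.of R)).inv ≫ V.ι.appTop) :=
      (ConcreteCategory.isIso_iff_bijective _).2 hbij
    exact inferInstanceAs (IsIso (Spec.map ((Scheme.ΓSpecIso (CommRingCat.of R)).inv ≫ V.ι.appTop)))
  have sq2 : IsPullback (𝟙 (Spec Γ(W, ⊤))) (Spec.map h.appTop) (Spec.map (CommRingCat.ofHom (structHom (h ≫ V.ι))))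
      (Spec.map ((Scheme.ΓSpecIso (CommRingCat.of R)).inv ≫ V.ι.appTop)) :=
    IsPullback.of_horiz_isIso ⟨by
      rw [Category.id_comp, ← Spec.map_comp]
      rfl⟩
  exact FEtSplit.Splits.of_isPullback ((Scheme.isPullback_toSpecΓ_toSpecΓ h).flip.paste_horiz sq2) hS

end HenLine
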